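import Groth.Agent.Lib.RelProjK.Amp
import Groth.Agent.Lib.QCoh.Locality

/-!
# Quasi-coherence, invertibility and periods of the twisting sheaves of a relative Proj
-/

set_option autoImplicit false
set_option backward.isDefEq.respectTransparency false

universe u

open CategoryTheory AlgebraicGeometry TopologicalSpace Opposite
open scoped HomogeneousIdeal

noncomputable section

namespace GrothLib.RelProjK

section general

variable {X Y : Scheme.{u}}

theorem isInvertible_pullback (g : Y ⟶ X) {L : X.Modules} (hL : PicF.IsInvertible L) :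
    PicF.IsInvertible ((Scheme.Modules.pullback g).obj L) := by
  obtain ⟨c, ⟨e⟩⟩ := Ample.exists_cocycle hL
  obtain ⟨d⟩ := c.nonempty_pullback_iso g e
  exact (c.comap g).isInvertible_of_iso d

theorem isInvertible_of_iso {L M : X.Modules} (e : L ≅ M) (hM : PicF.IsInvertible M) : PicF.IsInvertible L := by
  obtain ⟨c, ⟨d⟩⟩ := Ample.exists_cocycle hM
  exact c.isInvertible_of_iso (e ≪≫ d)

theorem isInvertible_restrict_image (j : Y ⟶ X) [IsOpenImmersion j] (L : X.Modules) (V : Y.Opens)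
    (h : PicF.IsInvertible (((Scheme.Modules.pullback j).obj L).restrict V.ι)) :
    PicF.IsInvertible (L.restrict (j ''ᵁ V).ι) := by
  have h1 : PicF.IsInvertible ((Scheme.Modules.pullback (V.ι ≫ j)).obj L) :=
    isInvertible_of_iso (((Scheme.Modules.pullbackComp V.ι j).app L).symm ≪≫
      ((Scheme.Modules.restrictFunctorIsoPullback V.ι).app _).symm) h
  have h2 := isInvertible_pullback (j.isoImage V).inv h1
  refine isInvertible_of_iso ((Scheme.Modules.restrictFunctorIsoPullback (j ''ᵁ V).ι).app L ≪≫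
    (Scheme.Modules.pullbackCongr ?_).app L ≪≫ ((Scheme.Modules.pullbackComp (j.isoImage V).inv (V.ι ≫ j)).app L).symm) h2
  simp

theorem isInvertible_restrict_of_le {L : X.Modules} (U : X.Opens) {κ : Type*} (W : κ → X.Opens)
    (hU : U ≤ ⨆ k, W k) (h : ∀ k, PicF.IsInvertible (L.restrict (W k).ι)) : PicF.IsInvertible (L.restrict U.ι) := by
  refine Ample.isInvertible_of_restrict (fun k => U.ι ⁻¹ᵁ W k) ?_ fun k => ?_
  · refine eq_top_iff.mpr fun x _ => ?_
    obtain ⟨k, hk⟩ := Opens.mem_iSup.mp (hU x.2)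
    exact Opens.mem_iSup.mpr ⟨k, hk⟩
  · let l : ((U.ι ⁻¹ᵁ W k : (U : Scheme.{u}).Opens) : Scheme.{u}) ⟶ W k := U.ι ∣_ W k
    refine isInvertible_of_iso ((Scheme.Modules.restrictFunctorIsoPullback _).app _ ≪≫
      (Scheme.Modules.pullback _).mapIso ((Scheme.Modules.restrictFunctorIsoPullback U.ι).app L) ≪≫
      (Scheme.Modules.pullbackComp (U.ι ⁻¹ᵁ W k).ι U.ι).app L ≪≫
      (Scheme.Modules.pullbackCongr (morphismRestrict_ι U.ι (W k)).symm).app L ≪≫
      ((Scheme.Modules.pullbackComp l (W k).ι).app L).symm ≪≫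
      (Scheme.Modules.pullback l).mapIso ((Scheme.Modules.restrictFunctorIsoPullback (W k).ι).app L).symm) ?_
    exact isInvertible_pullback l (h k)

theorem isQuasicoherent_of_iso {L M : X.Modules} (e : M ≅ L) (h : M.IsQuasicoherent) : L.IsQuasicoherent :=
  (SheafOfModules.isQuasicoherent X.ringCatSheaf).prop_of_iso e h

theorem isQuasicoherent_restrict_opensRange (j : Y ⟶ X) [IsOpenImmersion j] (L : X.Modules)
    (h : ((Scheme.Modules.pullback j).obj L).IsQuasicoherent) : (L.restrict j.opensRange.ι).IsQuasicoherent := by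
  let i : (j.opensRange : Scheme.{u}) ⟶ Y := j.isoOpensRange.inv
  have h1 : (((Scheme.Modules.pullback j).obj L).restrict i).IsQuasicoherent := inferInstance
  refine isQuasicoherent_of_iso ((Scheme.Modules.restrictFunctorIsoPullback i).app _ ≪≫
    (Scheme.Modules.pullbackComp i j).app L ≪≫ (Scheme.Modules.pullbackCongr ?_).app L ≪≫
    ((Scheme.Modules.restrictFunctorIsoPullback j.opensRange.ι).app L).symm) h1
  simp [i]

theorem isInvertible_twist_restrict_basicOpen {R A : Type u} [CommRing R] [CommRing A] [Algebra R A]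
    {𝒜 : ℕ → Submodule R A} [GradedAlgebra 𝒜] {d : ℕ} {f : A} (hf : f ∈ 𝒜 d) {n : ℤ} (hdn : (d : ℤ) ∣ n) :
    PicF.IsInvertible ((Twist.twist 𝒜 n).restrict (Proj.basicOpen 𝒜 f).ι) := by
  obtain ⟨j, rfl⟩ := hdn
  obtain ⟨g, hg⟩ := GrTilde.exists_gen_twist hf j
  rw [mul_comm]
  refine InvExt.isInvertible_of_gens fun x => ⟨⊤,
    show Γ((Twist.twist 𝒜 (j * d)).restrict (Proj.basicOpen 𝒜 f).ι, ⊤) from
      InvExt.mres (Twist.twist 𝒜 (j * d)) ((Proj.basicOpen 𝒜 f).ι_image_top.le) g,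
    Opens.mem_top x, InvExt.isGen_restrict (Proj.basicOpen 𝒜 f).ι (Twist.twist 𝒜 (j * d)) ?_⟩
  exact hg.restrict _

theorem isQuasicoherent_of_pullbacks {L : X.Modules} {ι : Type u} {Z : ι → Scheme.{u}} (j : ∀ i, Z i ⟶ X)
    [∀ i, IsOpenImmersion (j i)] (hcov : ∀ x : X, ∃ i, x ∈ (j i).opensRange)
    (h : ∀ i, ((Scheme.Modules.pullback (j i)).obj L).IsQuasicoherent) : L.IsQuasicoherent :=
  QCoh.isQuasicoherent_of_restrict L (fun i => (j i).opensRange)
    (eq_top_iff.mpr fun x _ => Opens.mem_iSup.mpr (hcov x))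
    fun i => isQuasicoherent_restrict_opensRange (j i) L (h i)

theorem isInvertible_restrict_image_of_iso (j : Y ⟶ X) [IsOpenImmersion j] {L : X.Modules} {T : Y.Modules}
    (e : (Scheme.Modules.pullback j).obj L ≅ T) (V : Y.Opens) (h : PicF.IsInvertible (T.restrict V.ι)) :
    PicF.IsInvertible (L.restrict (j ''ᵁ V).ι) :=
  isInvertible_restrict_image j L V (isInvertible_of_iso ((Scheme.Modules.restrictFunctor _).mapIso e) h)

end general

section twist

variable {S P : Scheme.{u}} {𝒮 : RelProj.QCGrAlg S} {p : P ⟶ S}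
  {chart : ∀ (U : S.Opens) (hU : IsAffineOpen U), (((p ⁻¹ᵁ U : P.Opens) : Scheme.{u}) ≅ Proj (𝒮.deg U hU))}
  {n : ℤ} {L : P.Modules}
  {lam : ∀ (U : S.Opens) (hU : IsAffineOpen U),
    L ⟶ (Scheme.Modules.pushforward (RelProj.emb p chart U hU)).obj (GrTwist.twist (𝒮.deg U hU) n)}

theorem isQCoh_of_isRelTwist (hL : RelProj.IsRelTwist 𝒮 p chart n L lam) : Coh.IsQCoh L := by
  have hcov : ∀ x : P, ∃ U : S.affineOpens, x ∈ (embZ p chart U.1 U.2).opensRange := by
    intro x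
    obtain ⟨U, hU, hxU, -⟩ := exists_isAffineOpen_mem_and_subset (Opens.mem_top (p x))
    exact ⟨⟨U, hU⟩, (opensRange_embZ p chart U hU).ge hxU⟩
  refine isQuasicoherent_of_pullbacks (fun U : S.affineOpens => embZ p chart U.1 U.2) hcov fun U => ?_
  exact (nonempty_pullback_embZ_iso U.1 U.2 hL).elim fun e =>
    isQuasicoherent_of_iso e.symm (GrTilde.isQuasicoherent_twist _ n)

/-- Over `D₊(f)` the twist is invertible when the degree of `f` divides it. -/
theorem isInvertible_restrict_basic (hL : RelProj.IsRelTwist 𝒮 p chart n L lam) (U : S.Opens) (hU : IsAffineOpen U)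
    {d : ℕ} {f : 𝒮.presheaf.obj (op U)} (hf : f ∈ 𝒮.deg U hU d) (hdn : (d : ℤ) ∣ n) :
    PicF.IsInvertible (L.restrict (embZ p chart U hU ''ᵁ Proj.basicOpen (zg (𝒮.deg U hU)) f).ι) := by
  exact (nonempty_pullback_embZ_iso U hU hL).elim fun e =>
    isInvertible_restrict_image_of_iso (embZ p chart U hU) e _
      (isInvertible_twist_restrict_basicOpen (𝒜 := zg (𝒮.deg U hU)) hf hdn)

set_option maxHeartbeats 800000 in
theorem isInvertible_of_isRelTwist (hgen : 𝒮.IsGenDegOne) (hL : RelProj.IsRelTwist 𝒮 p chart n L lam) :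
    PicF.IsInvertible L := by
  refine Ample.isInvertible_of_restrict
    (fun i : (Σ U : S.affineOpens, {f : 𝒮.presheaf.obj (op U.1) // f ∈ 𝒮.deg U.1 U.2 1}) =>
      embZ p chart i.1.1 i.1.2 ''ᵁ Proj.basicOpen (zg (𝒮.deg i.1.1 i.1.2)) i.2.1) ?_
    fun i => isInvertible_restrict_basic hL i.1.1 i.1.2 i.2.2 (one_dvd n)
  refine eq_top_iff.mpr fun x _ => ?_
  obtain ⟨U, hU, hxU, -⟩ := exists_isAffineOpen_mem_and_subset (Opens.mem_top (p x))
  obtain ⟨y, hy⟩ := (opensRange_embZ p chart U hU).ge (show x ∈ p ⁻¹ᵁ U from hxU)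
  obtain ⟨f, hf, hfy⟩ := exists_deg_one_notMem (𝒮.deg U hU) (hgen U hU) y
  exact Opens.mem_iSup.mpr ⟨⟨⟨U, hU⟩, ⟨f, hf⟩⟩, y, hfy, hy⟩

end twist

section periods

variable {S P : Scheme.{u}} (𝒮 : RelProj.QCGrAlg S) (p : P ⟶ S)
  (chart : ∀ (U : S.Opens) (hU : IsAffineOpen U), (((p ⁻¹ᵁ U : P.Opens) : Scheme.{u}) ≅ Proj (𝒮.deg U hU)))

/-- A quasi-compact open of a relative Proj meets finitely many basic opens. -/
theorem exists_period {V : P.Opens} (hV : IsCompact (V : Set P)) :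
    ∃ d : ℕ, 0 < d ∧ ∀ x ∈ V, ∃ (U : S.Opens) (hU : IsAffineOpen U) (f : 𝒮.presheaf.obj (op U)),
      f ∈ 𝒮.deg U hU d ∧ x ∈ embZ p chart U hU ''ᵁ Proj.basicOpen (zg (𝒮.deg U hU)) f := by
  classical
  have hloc : ∀ x : P, ∃ (U : S.Opens) (hU : IsAffineOpen U) (d : ℕ) (f : 𝒮.presheaf.obj (op U)),
      0 < d ∧ f ∈ 𝒮.deg U hU d ∧ x ∈ embZ p chart U hU ''ᵁ Proj.basicOpen (zg (𝒮.deg U hU)) f := by
    intro x
    obtain ⟨U, hU, hxU, -⟩ := exists_isAffineOpen_mem_and_subset (Opens.mem_top (p x))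
    obtain ⟨y, hy⟩ := (opensRange_embZ p chart U hU).ge (show x ∈ p ⁻¹ᵁ U from hxU)
    obtain ⟨⟨⟨d, hd⟩, ⟨f, hf⟩⟩, hfy⟩ :=
      Opens.mem_iSup.mp ((GrTilde.iSup_basicOpen_pos (𝒜 := zg (𝒮.deg U hU))).ge (Opens.mem_top y))
    exact ⟨U, hU, d, f, hd, hf, y, hfy, hy⟩
  choose U hU d f hd hf hx using hloc
  obtain ⟨t, ht⟩ := hV.elim_finite_subcover
    (fun x => ((embZ p chart (U x) (hU x) ''ᵁ Proj.basicOpen (zg (𝒮.deg (U x) (hU x))) (f x) : P.Opens) : Set P))
    (fun x => (embZ p chart (U x) (hU x) ''ᵁ Proj.basicOpen (zg (𝒮.deg (U x) (hU x))) (f x)).2)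
    (fun x _ => Set.mem_iUnion.mpr ⟨x, hx x⟩)
  refine ⟨∏ x : t, d x.1, Finset.prod_pos fun x _ => hd _, fun x hxV => ?_⟩
  obtain ⟨x', hx', hxx⟩ := Set.mem_iUnion₂.mp (ht hxV)
  obtain ⟨q, hq⟩ : d x' ∣ ∏ x : t, d x.1 := Finset.dvd_prod_of_mem (fun x : t => d x.1) (Finset.mem_univ ⟨x', hx'⟩)
  have hq0 : 0 < q := Nat.pos_of_ne_zero fun h => by
    have h2 : 0 < ∏ x : t, d x.1 := Finset.prod_pos fun x _ => hd _
    rw [hq, h, mul_zero] at h2
    exact lt_irrefl 0 h2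
  refine ⟨U x', hU x', f x' ^ q, ?_, ?_⟩
  · rw [hq, mul_comm]
    simpa using SetLike.pow_mem_graded (A := 𝒮.deg (U x') (hU x')) q (hf x')
  · rw [Proj.basicOpen_pow _ _ q hq0]
    exact hxx

variable {𝒮 p chart}

theorem isInvertible_restrict_of_period {V : P.Opens} {d : ℕ}
    (hd : ∀ x ∈ V, ∃ (U : S.Opens) (hU : IsAffineOpen U) (f : 𝒮.presheaf.obj (op U)),
      f ∈ 𝒮.deg U hU d ∧ x ∈ embZ p chart U hU ''ᵁ Proj.basicOpen (zg (𝒮.deg U hU)) f)
    {n : ℤ} (hn : (d : ℤ) ∣ n) {L : P.Modules}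
    {lam : ∀ (U : S.Opens) (hU : IsAffineOpen U),
      L ⟶ (Scheme.Modules.pushforward (RelProj.emb p chart U hU)).obj (GrTwist.twist (𝒮.deg U hU) n)}
    (hL : RelProj.IsRelTwist 𝒮 p chart n L lam) : PicF.IsInvertible (L.restrict V.ι) := by
  refine isInvertible_restrict_of_le V
    (fun i : (Σ U : S.affineOpens, {f : 𝒮.presheaf.obj (op U.1) // f ∈ 𝒮.deg U.1 U.2 d}) =>
      embZ p chart i.1.1 i.1.2 ''ᵁ Proj.basicOpen (zg (𝒮.deg i.1.1 i.1.2)) i.2.1) (fun x hx => ?_)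
    fun i => isInvertible_restrict_basic hL i.1.1 i.1.2 i.2.2 hn
  obtain ⟨U, hU, f, hf, hxf⟩ := hd x hx
  exact Opens.mem_iSup.mpr ⟨⟨⟨U, hU⟩, ⟨f, hf⟩⟩, hxf⟩

end periods

section finiteType

variable {R A : Type u} [CommRing R] [CommRing A] (𝒜 : ℕ → AddSubgroup A) [GradedRing 𝒜]

/-- Finitely many homogeneous elements of positive degree span the irrelevant ideal. -/
theorem exists_finite_homogeneous_span (σ : R →+* A) (h0 : ∀ r, σ r ∈ 𝒜 0) (hft : σ.FiniteType) :
    ∃ T : Finset (ℕ × A), (∀ t ∈ T, 0 < t.1 ∧ t.2 ∈ 𝒜 t.1) ∧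
      (𝒜₊).toIdeal ≤ Ideal.span (Prod.snd '' (T : Set (ℕ × A))) := by
  classical
  letI := σ.toAlgebra
  obtain ⟨G, hG⟩ := hft.out
  let T : Finset (ℕ × A) := G.biUnion fun g =>
    ((DirectSum.decompose 𝒜 g).support.filter (0 < ·)).image fun i => (i, (DirectSum.decompose 𝒜 g i : A))
  refine ⟨T, fun t ht => ?_, fun a ha => ?_⟩
  · obtain ⟨g, -, hg⟩ := Finset.mem_biUnion.mp ht
    obtain ⟨i, hi, rfl⟩ := Finset.mem_image.mp hg
    exact ⟨(Finset.mem_filter.mp hi).2, SetLike.coe_mem _⟩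
  · let I := Ideal.span (Prod.snd '' (T : Set (ℕ × A)))
    have key : ∀ x ∈ Algebra.adjoin R (G : Set A), x - GradedRing.projZeroRingHom 𝒜 x ∈ I := by
      intro x hx
      induction hx using Algebra.adjoin_induction with
      | mem x hx =>
        have hsum := DirectSum.sum_support_decompose 𝒜 x
        by_cases h : (0 : ℕ) ∈ (DirectSum.decompose 𝒜 x).support
        · have e : x - GradedRing.projZeroRingHom 𝒜 x =
              ∑ i ∈ (DirectSum.decompose 𝒜 x).support.erase 0, (DirectSum.decompose 𝒜 x i : A) := by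
            nth_rewrite 1 [← hsum]
            rw [← Finset.add_sum_erase _ _ h]
            exact add_sub_cancel_left _ _
          rw [e]
          refine sum_mem fun i hi => Ideal.subset_span ⟨(i, _), ?_, rfl⟩
          obtain ⟨hi0, hi⟩ := Finset.mem_erase.mp hi
          exact Finset.mem_biUnion.mpr ⟨x, hx, Finset.mem_image.mpr
            ⟨i, Finset.mem_filter.mpr ⟨hi, Nat.pos_of_ne_zero hi0⟩, rfl⟩⟩
        · have h0' : GradedRing.projZeroRingHom 𝒜 x = 0 := by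
            have := DFinsupp.notMem_support_iff.mp h
            show (DirectSum.decompose 𝒜 x 0 : A) = 0
            rw [this]; rfl
          rw [h0', sub_zero, ← hsum]
          refine sum_mem fun i hi => Ideal.subset_span ⟨(i, _), ?_, rfl⟩
          exact Finset.mem_biUnion.mpr ⟨x, hx, Finset.mem_image.mpr
            ⟨i, Finset.mem_filter.mpr ⟨hi, Nat.pos_of_ne_zero fun h' => h (h' ▸ hi)⟩, rfl⟩⟩
      | algebraMap r =>
        rw [show algebraMap R A r = σ r from rfl,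
          show GradedRing.projZeroRingHom 𝒜 (σ r) = σ r from DirectSum.decompose_of_mem_same 𝒜 (h0 r), sub_self]
        exact zero_mem _
      | add x y _ _ hx hy =>
        rw [map_add, show x + y - (GradedRing.projZeroRingHom 𝒜 x + GradedRing.projZeroRingHom 𝒜 y) =
          (x - GradedRing.projZeroRingHom 𝒜 x) + (y - GradedRing.projZeroRingHom 𝒜 y) by ring]
        exact add_mem hx hy
      | mul x y _ _ hx hy =>
        rw [map_mul, show x * y - GradedRing.projZeroRingHom 𝒜 x * GradedRing.projZeroRingHom 𝒜 y =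
          (x - GradedRing.projZeroRingHom 𝒜 x) * y +
            GradedRing.projZeroRingHom 𝒜 x * (y - GradedRing.projZeroRingHom 𝒜 y) by ring]
        exact add_mem (Ideal.mul_mem_right _ _ hx) (Ideal.mul_mem_left _ _ hy)
    have hz : GradedRing.projZeroRingHom 𝒜 a = 0 := (HomogeneousIdeal.mem_irrelevant_iff 𝒜 a).mp ha
    have := key a (hG ▸ Algebra.mem_top)
    rwa [hz, sub_zero] at this

end finiteType

theorem exists_isRelAmple_period {S X : Scheme.{u}} [CompactSpace S] (𝒮 : RelProj.QCGrAlg S)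
    (hft : ∀ (U : S.Opens) (hU : IsAffineOpen U), (𝒮.str.app (op U)).hom.FiniteType) (f : X ⟶ S)
    (chart : ∀ (U : S.Opens) (hU : IsAffineOpen U), ((f ⁻¹ᵁ U : X.Opens) : Scheme.{u}) ≅ Proj (𝒮.deg U hU)) :
    ∃ d : ℕ, 0 < d ∧ ∀ (L : X.Modules)
      (lam : ∀ (U : S.Opens) (hU : IsAffineOpen U),
        L ⟶ (Scheme.Modules.pushforward (RelProj.emb f chart U hU)).obj (GrTwist.twist (𝒮.deg U hU) (d : ℤ))),
      RelProj.IsRelTwist 𝒮 f chart (d : ℤ) L lam → PicF.IsInvertible L ∧ RelAmple.IsRelAmple f L := by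
  classical
  obtain ⟨t, ht⟩ := isCompact_univ.elim_finite_subcover (fun V : S.affineOpens => ((V.1 : S.Opens) : Set S))
    (fun V => V.1.2) (fun y _ => by
      obtain ⟨U, hU, hyU, -⟩ := exists_isAffineOpen_mem_and_subset (Opens.mem_top y)
      exact Set.mem_iUnion.mpr ⟨⟨U, hU⟩, hyU⟩)
  choose T hTd hTspan using fun V : S.affineOpens => exists_finite_homogeneous_span (𝒮.deg V.1 V.2)
    (𝒮.str.app (op V.1)).hom (𝒮.str_mem V.1 V.2) (hft V.1 V.2)
  let d := ∏ V : t, ∏ x ∈ T V.1, x.1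
  have hd0 : 0 < d := Finset.prod_pos fun V _ => Finset.prod_pos fun x hx => (hTd _ x hx).1
  have hcov : ∀ (V : t) (y : Proj (zg (𝒮.deg V.1.1 V.1.2))),
      ∃ b ∈ zg (𝒮.deg V.1.1 V.1.2) d, b ∉ y.asHomogeneousIdeal := by
    intro V y
    obtain ⟨b, ⟨x, hx, rfl⟩, hby⟩ := GrTilde.exists_notMem_of_span (𝒜 := zg (𝒮.deg V.1.1 V.1.2))
      (S := Prod.snd '' (T V.1 : Set (ℕ × 𝒮.presheaf.obj (op V.1.1)))) (fun a ha => hTspan V.1 ha) y
    obtain ⟨q, hq⟩ : x.1 ∣ d := (Finset.dvd_prod_of_mem (fun x => x.1) hx).trans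
      (Finset.dvd_prod_of_mem (fun V : t => ∏ x ∈ T V.1, x.1) (Finset.mem_univ V))
    refine ⟨x.2 ^ q, ?_, fun h => hby (y.isPrime.mem_of_pow_mem _ h)⟩
    rw [hq, mul_comm]
    simpa using SetLike.pow_mem_graded (A := zg (𝒮.deg V.1.1 V.1.2)) q (hTd _ x hx).2
  haveI hqc : QuasiCompact f := by
    refine (HasAffineProperty.iff_of_iSup_eq_top (P := @QuasiCompact)
      (fun V : t => V.1) ?_).mpr fun V => ?_
    · refine eq_top_iff.mpr fun y _ => ?_
      obtain ⟨V, hV, hyV⟩ := Set.mem_iUnion₂.mp (ht (Set.mem_univ y))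
      exact Opens.mem_iSup.mpr ⟨⟨V, hV⟩, hyV⟩
    · let e := chart V.1.1 V.1.2 ≪≫ (projIso (𝒮.deg V.1.1 V.1.2)).symm
      haveI : CompactSpace (Proj (zg (𝒮.deg V.1.1 V.1.2))) :=
        GrTilde.compactSpace_of_finite (fun x : T V.1 => x.1.2) (fun x => x.1.1) (fun x => (hTd _ x.1 x.2).1)
          (fun x => (hTd _ x.1 x.2).2) fun y => by
            obtain ⟨b, ⟨x, hx, rfl⟩, hby⟩ := GrTilde.exists_notMem_of_span (𝒜 := zg (𝒮.deg V.1.1 V.1.2))
              (S := Prod.snd '' (T V.1 : Set (ℕ × 𝒮.presheaf.obj (op V.1.1)))) (fun a ha => hTspan V.1 ha) y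
            exact ⟨⟨x, hx⟩, hby⟩
      exact e.inv.homeomorph.compactSpace
  refine ⟨d, hd0, fun L lam hL => ?_⟩
  have hA : RelAmple.IsRelAmple f L := Ample.isRelAmple_of_cover fun y => by
    obtain ⟨V, hV, hyV⟩ := Set.mem_iUnion₂.mp (ht (Set.mem_univ y))
    refine ⟨V.1, hyV, V.2, ?_⟩
    let W := f ⁻¹ᵁ V.1
    haveI : CompactSpace (W : Scheme.{u}) := isCompact_iff_compactSpace.mp (f.isCompact_preimage V.2.isCompact)
    obtain ⟨l, hl⟩ := exists_lift_embZ f chart V.1 V.2 W.ι fun x => x.2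
    haveI : IsOpenImmersion (l ≫ embZ f chart V.1 V.2) := hl ▸ inferInstance
    haveI : IsOpenImmersion l := IsOpenImmersion.of_comp l (embZ f chart V.1 V.2)
    haveI : CompactSpace (Proj (zg (𝒮.deg V.1 V.2))) :=
      ((chart V.1 V.2 ≪≫ (projIso (𝒮.deg V.1 V.2)).symm).hom.homeomorph).compactSpace
    obtain ⟨e⟩ := nonempty_pullback_embZ_iso V.1 V.2 hL
    have h := Ample.isAmple_pullback_of_isEmbedding l l.isOpenEmbedding.isEmbedding
      (GrTilde.isAmple_twist_of_cover hd0 (hcov ⟨V, hV⟩))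
    rw [← Ample.isAmple_iff_of_iso ((Scheme.Modules.pullback l).mapIso e), Ample.isAmple_pullback_comp_iff, hl,
      ← Ample.isAmple_restrict_iff] at h
    exact h
  exact ⟨Ample.isInvertible_of_isRelAmple hA, hA⟩

end GrothLib.RelProjK
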