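import Groth.Agent.Lib.RelProjK.Away
import Mathlib.AlgebraicGeometry.ProjectiveSpectrum.Functor
import Mathlib.AlgebraicGeometry.ProjectiveSpectrum.Proper

/-!
# `Proj` of a localisation at an element of degree zero
-/

set_option autoImplicit false
set_option backward.isDefEq.respectTransparency false

universe u

open CategoryTheory CategoryTheory.Limits AlgebraicGeometry TopologicalSpace Opposite HomogeneousLocalization
open scoped HomogeneousIdeal

noncomputable section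

namespace GrothLib.RelProjK

variable {A B : Type u} [CommRing A] [CommRing B] {σ τ : Type u} [SetLike σ A] [AddSubgroupClass σ A]
  [SetLike τ B] [AddSubgroupClass τ B] {𝒜 : ℕ → σ} {ℬ : ℕ → τ} [GradedRing 𝒜] [GradedRing ℬ]

/-- Every point of a homogeneous spectrum is in an affine chart. -/
theorem exists_awayι (x : Proj 𝒜) : ∃ (m : ℕ) (f : A) (hf : f ∈ 𝒜 m) (hm : 0 < m) (y : Spec (.of <| Away 𝒜 f)),
    Proj.awayι 𝒜 f hf hm y = x := by
  obtain ⟨i, y, hy⟩ := (Proj.affineOpenCover 𝒜).openCover.exists_eq x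
  exact ⟨i.1.1, i.2.1, i.2.2, i.1.2, y, hy⟩

theorem isUnit_fromZero_pow {m : ℕ} {f : A} (hf : f ∈ 𝒜 m) {c : A} (hc : c ∈ 𝒜 0) :
    Away.isLocalizationElem hf hc = fromZeroRingHom 𝒜 (Submonoid.powers f) ⟨c, hc⟩ ^ m := by
  ext
  simp [fromZeroRingHom, HomogeneousLocalization.val_mk, Localization.mk_pow]

theorem awayι_preimage_basicOpen_zero {m : ℕ} {f : A} (hf : f ∈ 𝒜 m) (hm : 0 < m) {c : A} (hc : c ∈ 𝒜 0) :
    Proj.awayι 𝒜 f hf hm ⁻¹ᵁ Proj.basicOpen 𝒜 c =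
      PrimeSpectrum.basicOpen (fromZeroRingHom 𝒜 (Submonoid.powers f) ⟨c, hc⟩) := by
  have hfc : f * c ∈ 𝒜 (m + 0) := SetLike.mul_mem_graded hf hc
  have e1 : Proj.awayι 𝒜 f hf hm ⁻¹ᵁ Proj.basicOpen 𝒜 c =
      Proj.awayι 𝒜 f hf hm ⁻¹ᵁ Proj.basicOpen 𝒜 (f * c) := by
    rw [Proj.basicOpen_mul, ← Proj.opensRange_awayι 𝒜 f hf hm]
    ext1
    simp
  rw [e1, Proj.awayι_preimage_basicOpen 𝒜 hf hm hfc (by simpa using hm)]
  have e2 : Away.isLocalizationElem hf hfc =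
      fromZeroRingHom 𝒜 (Submonoid.powers f) ⟨c, hc⟩ ^ m := by
    ext
    simp only [HomogeneousLocalization.val_pow, Away.val_mk, fromZeroRingHom, RingHom.coe_mk, MonoidHom.coe_mk,
      OneHom.coe_mk, HomogeneousLocalization.val_mk, Localization.mk_pow]
    rw [Localization.mk_eq_mk_iff, Localization.r_iff_exists]
    exact ⟨1, by simp; ring⟩
  rw [e2, PrimeSpectrum.basicOpen_pow _ _ hm]

theorem toSpecZero_preimage_basicOpen {c : A} (hc : c ∈ 𝒜 0) :
    Proj.toSpecZero 𝒜 ⁻¹ᵁ PrimeSpectrum.basicOpen (⟨c, hc⟩ : 𝒜 0) = Proj.basicOpen 𝒜 c := by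
  ext x
  obtain ⟨m, f, hf, hm, y, rfl⟩ := exists_awayι x
  show (Proj.awayι 𝒜 f hf hm ≫ Proj.toSpecZero 𝒜) y ∈ PrimeSpectrum.basicOpen (⟨c, hc⟩ : 𝒜 0) ↔
    y ∈ Proj.awayι 𝒜 f hf hm ⁻¹ᵁ Proj.basicOpen 𝒜 c
  rw [awayι_preimage_basicOpen_zero hf hm hc, Proj.awayι_toSpecZero]
  rfl

variable (ψ : 𝒜 →+*ᵍ ℬ) (hψ : ℬ₊ ≤ (𝒜₊).map ψ)

theorem map_congr_hom {φ : 𝒜 →+*ᵍ ℬ} (e : ψ = φ) (hφ : ℬ₊ ≤ (𝒜₊).map φ) : Proj.map ψ hψ = Proj.map φ hφ := by
  subst e; rfl

/-- The degree zero part of a graded homomorphism. -/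
abbrev zeroHom : CommRingCat.of (𝒜 0) ⟶ CommRingCat.of (ℬ 0) :=
  CommRingCat.ofHom ψ.gradedZeroRingHom

theorem away_map_fromZero {f : A} (a : 𝒜 0) :
    Away.map ψ f (fromZeroRingHom 𝒜 _ a) = fromZeroRingHom ℬ _ (ψ.gradedZeroRingHom a) := by
  ext
  simp [Away.map, fromZeroRingHom, HomogeneousLocalization.map_mk, HomogeneousLocalization.val_mk]

theorem map_toSpecZero : Proj.map ψ hψ ≫ Proj.toSpecZero 𝒜 = Proj.toSpecZero ℬ ≫ Spec.map (zeroHom ψ) := by
  refine (Proj.mapAffineOpenCover ψ hψ).openCover.hom_ext _ _ fun s => ?_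
  simp only [Scheme.AffineOpenCover.openCover_f, Proj.mapAffineOpenCover_f]
  rw [Proj.awayι_comp_map_assoc ψ hψ s.1.2 _ s.2.2, Proj.awayι_toSpecZero, Proj.awayι_toSpecZero_assoc,
    ← Spec.map_comp, ← Spec.map_comp]
  congr 1
  refine CommRingCat.hom_ext (RingHom.ext fun a => ?_)
  exact away_map_fromZero ψ a

variable (c : A) (hc : c ∈ 𝒜 0) (hloc : letI := ψ.toRingHom.toAlgebra; IsLocalization.Away c B)

include hloc hc in
theorem isUnit_fromZero_map {g : B} :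
    IsUnit (fromZeroRingHom ℬ (Submonoid.powers g) ⟨ψ c, ψ.map_mem hc⟩) := by
  classical
  refine IsUnit.map _ ?_
  obtain ⟨v, hv⟩ := (isUnit_map ψ c hloc).exists_right_inv
  refine isUnit_iff_exists_inv.mpr ⟨⟨_, SetLike.coe_mem (DirectSum.decompose ℬ v 0)⟩, Subtype.ext ?_⟩
  show ψ c * (DirectSum.decompose ℬ v 0 : B) = 1
  refine ((DirectSum.coe_decompose_mul_of_left_mem_zero ℬ (b := v) (j := 0) (ψ.map_mem hc)).symm.trans
    (congrArg (fun w => ((DirectSum.decompose ℬ w 0 : ℬ 0) : B)) hv)).trans ?_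
  exact DirectSum.decompose_of_mem_same ℬ SetLike.GradedOne.one_mem

include hloc hc in
theorem isLocalization_away_map {m : ℕ} {f : A} (hf : f ∈ 𝒜 m) :
    letI := (Away.map ψ f).toAlgebra
    IsLocalization.Away (fromZeroRingHom 𝒜 (Submonoid.powers f) ⟨c, hc⟩) (Away ℬ (ψ f)) := by
  letI := (Away.map ψ f).toAlgebra
  refine ⟨?_, ?_, ?_⟩
  · rintro ⟨_, n, rfl⟩
    show IsUnit (Away.map ψ f _)
    rw [map_pow, away_map_fromZero]
    exact (isUnit_fromZero_map ψ c hc hloc).pow n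
  · intro z
    obtain ⟨n, b, hb, rfl⟩ := Away.mk_surjective ℬ (ψ.map_mem hf) z
    obtain ⟨k, a, ha, hka⟩ := exists_homogeneous_num ψ c hc hloc hb
    refine ⟨⟨Away.mk 𝒜 hf n a ha, ⟨_, k, rfl⟩⟩, ?_⟩
    show _ * Away.map ψ f _ = Away.map ψ f _
    rw [map_pow, away_map_fromZero, Away.map_mk]
    ext
    simp only [HomogeneousLocalization.val_mul, HomogeneousLocalization.val_pow, Away.val_mk, fromZeroRingHom,
      RingHom.coe_mk, MonoidHom.coe_mk, OneHom.coe_mk, HomogeneousLocalization.val_mk, Localization.mk_pow,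
      Localization.mk_mul, GradedRingHom.gradedZeroRingHom_apply_coe, hka]
    rw [Localization.mk_eq_mk_iff, Localization.r_iff_exists]
    exact ⟨1, by simp; ring⟩
  · intro p q hpq
    obtain ⟨n, a, ha, rfl⟩ := Away.mk_surjective 𝒜 hf p
    obtain ⟨n', a', ha', rfl⟩ := Away.mk_surjective 𝒜 hf q
    have hpq' := congrArg HomogeneousLocalization.val hpq
    rw [show algebraMap (Away 𝒜 f) (Away ℬ (ψ f)) = Away.map ψ f from rfl, Away.map_mk, Away.map_mk,
      Away.val_mk, Away.val_mk, Localization.mk_eq_mk_iff, Localization.r_iff_exists] at hpq'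
    obtain ⟨⟨_, l, rfl⟩, hl⟩ := hpq'
    have h0 : ψ (f ^ l * (f ^ n' * a - f ^ n * a')) = 0 := by
      rw [map_mul, map_sub, map_mul, map_mul, map_pow, map_pow, map_pow, mul_sub, sub_eq_zero]
      exact hl
    obtain ⟨k, hk⟩ := exists_kill ψ c hloc h0
    refine ⟨⟨_, k, rfl⟩, ?_⟩
    ext
    simp only [HomogeneousLocalization.val_mul, HomogeneousLocalization.val_pow, Away.val_mk, fromZeroRingHom,
      RingHom.coe_mk, MonoidHom.coe_mk, OneHom.coe_mk, HomogeneousLocalization.val_mk, Localization.mk_pow,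
      Localization.mk_mul]
    rw [Localization.mk_eq_mk_iff, Localization.r_iff_exists]
    refine ⟨⟨f ^ l, l, rfl⟩, sub_eq_zero.mp ?_⟩
    rw [← hk]
    simp
    ring

include hloc hc in
theorem isOpenImmersion_specMap_away {m : ℕ} {f : A} (hf : f ∈ 𝒜 m) :
    IsOpenImmersion (Spec.map (CommRingCat.ofHom (Away.map ψ f))) ∧
      Set.range (Spec.map (CommRingCat.ofHom (Away.map ψ f))) =
        ((PrimeSpectrum.basicOpen (fromZeroRingHom 𝒜 (Submonoid.powers f) ⟨c, hc⟩) :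
          Opens (PrimeSpectrum (Away 𝒜 f))) : Set (PrimeSpectrum (Away 𝒜 f))) := by
  letI := (Away.map ψ f).toAlgebra
  haveI := isLocalization_away_map ψ c hc hloc hf
  exact ⟨IsOpenImmersion.of_isLocalization (fromZeroRingHom 𝒜 (Submonoid.powers f) ⟨c, hc⟩),
    PrimeSpectrum.localization_away_comap_range _ _⟩

theorem isPullback_awayι_map {m : ℕ} {f : A} (hm : 0 < m) (hf : f ∈ 𝒜 m) :
    IsPullback (Proj.awayι ℬ (ψ f) (ψ.map_mem hf) hm) (Spec.map (CommRingCat.ofHom (Away.map ψ f)))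
      (Proj.map ψ hψ) (Proj.awayι 𝒜 f hf hm) := by
  refine (IsOpenImmersion.isPullback _ _ _ _ (Proj.awayι_comp_map ψ hψ hm f hf) ?_).flip
  rw [Proj.opensRange_awayι, Proj.opensRange_awayι]
  exact Proj.map_preimage_basicOpen ψ hψ f

include hloc hc in
theorem isOpenImmersion_pullback_snd {m : ℕ} {f : A} (hm : 0 < m) (hf : f ∈ 𝒜 m) :
    IsOpenImmersion (pullback.snd (Proj.map ψ hψ) (Proj.awayι 𝒜 f hf hm)) := by
  haveI := (isOpenImmersion_specMap_away ψ c hc hloc hf).1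
  rw [← (isPullback_awayι_map ψ hψ hm hf).isoPullback_inv_snd]
  infer_instance

include hloc hc in
/-- `Proj` of a localisation at an element of degree zero is an open subscheme. -/
theorem isOpenImmersion_map_of_away :
    IsOpenImmersion (Proj.map ψ hψ) ∧ (Set.range (Proj.map ψ hψ) = (Proj.basicOpen 𝒜 c : Set (Proj 𝒜))) := by
  refine ⟨?_, ?_⟩
  · rw [IsZariskiLocalAtTarget.iff_of_openCover (P := @IsOpenImmersion) (Proj.affineOpenCover 𝒜).openCover]
    exact fun s => isOpenImmersion_pullback_snd ψ hψ c hc hloc s.1.2 s.2.2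
  · ext x
    constructor
    · rintro ⟨y, rfl⟩
      show y ∈ Proj.map ψ hψ ⁻¹ᵁ Proj.basicOpen 𝒜 c
      rw [Proj.map_preimage_basicOpen, Proj.mem_basicOpen]
      exact map_notMem ψ c hloc y
    · intro hx
      obtain ⟨m, f, hf, hm, y, rfl⟩ := exists_awayι x
      have hy : y ∈ Proj.awayι 𝒜 f hf hm ⁻¹ᵁ Proj.basicOpen 𝒜 c := hx
      rw [awayι_preimage_basicOpen_zero hf hm hc] at hy
      obtain ⟨z, rfl⟩ := (isOpenImmersion_specMap_away ψ c hc hloc hf).2.ge hy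
      exact ⟨Proj.awayι ℬ (ψ f) (ψ.map_mem hf) hm z, by
        rw [← Scheme.Hom.comp_apply, Proj.awayι_comp_map ψ hψ hm f hf]; rfl⟩

end GrothLib.RelProjK
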