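import Groth.Agent.Lib.RelProjK.GlueProj

/-!
# First properties of a relative Proj
-/

set_option autoImplicit false
set_option backward.isDefEq.respectTransparency false

universe u

open CategoryTheory CategoryTheory.Limits AlgebraicGeometry TopologicalSpace Opposite
open scoped HomogeneousIdeal

noncomputable section

namespace GrothLib.RelProjK

section glue

variable {Y P : Scheme.{u}} (p : P ⟶ Y) {T : Scheme.{u}}

theorem hom_ext_affine {g g' : P ⟶ T}
    (h : ∀ (U : Y.Opens) (_ : IsAffineOpen U), (p ⁻¹ᵁ U).ι ≫ g = (p ⁻¹ᵁ U).ι ≫ g') : g = g' := by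
  refine (P.openCoverOfIsOpenCover _ (IsOpenCover.comap (iSup_affineOpens_eq_top Y) p.base.hom)).hom_ext _ _ fun U => ?_
  exact h U.1 U.2

/-- Morphisms on the preimages of the affine opens, compatible with basic opens, glue uniquely. -/
theorem existsUnique_glue_affine (g : ∀ (U : Y.Opens), IsAffineOpen U → (((p ⁻¹ᵁ U : P.Opens) : Scheme.{u}) ⟶ T))
    (hg : ∀ (U : Y.Opens) (hU : IsAffineOpen U) (r : Γ(Y, U)),
      P.homOfLE (p.preimage_mono (Y.basicOpen_le r)) ≫ g U hU = g (Y.basicOpen r) (hU.basicOpen r)) :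
    ∃! h : P ⟶ T, ∀ (U : Y.Opens) (hU : IsAffineOpen U), (p ⁻¹ᵁ U).ι ≫ h = g U hU := by
  have hg' : ∀ {U V : Y.AffineZariskiSite} (h : V ≤ U),
      P.homOfLE (p.preimage_mono (Scheme.AffineZariskiSite.toOpens_mono h)) ≫ g U.1 U.2 = g V.1 V.2 := by
    intro U V h
    obtain ⟨V, hV⟩ := V
    obtain ⟨r, hr⟩ := id h
    obtain rfl : Y.basicOpen r = V := hr
    exact hg U.1 U.2 r
  let 𝒰 := (Scheme.AffineZariskiSite.directedCover Y).pullback₁ p
  let e : ∀ U : Y.AffineZariskiSite, pullback p U.1.ι ≅ ((p ⁻¹ᵁ U.1 : P.Opens) : Scheme.{u}) :=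
    fun U => pullbackRestrictIsoRestrict p U.1
  have htr : ∀ {U V : Y.AffineZariskiSite} (i : U ⟶ V), (e U).inv ≫ Scheme.Cover.trans 𝒰 i ≫ (e V).hom =
      P.homOfLE (p.preimage_mono (Scheme.AffineZariskiSite.toOpens_mono i.le)) := by
    intro U V i
    rw [← cancel_mono (Scheme.Opens.ι _)]
    simp +instances [Scheme.Cover.trans, Scheme.Cover.locallyDirectedPullbackCover, 𝒰, e]
  let F : P ⟶ T := Scheme.OpenCover.glueMorphismsOfLocallyDirected 𝒰
    (fun U => (e U).hom ≫ g U.1 U.2) fun {U V} i => by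
      rw [← Iso.inv_comp_eq, reassoc_of% (htr i)]
      exact hg' (leOfHom (show (U : Y.AffineZariskiSite) ⟶ V from i))
  have hF : ∀ (U : Y.Opens) (hU : IsAffineOpen U), (p ⁻¹ᵁ U).ι ≫ F = g U hU := by
    intro U hU
    rw [← cancel_epi (e ⟨U, hU⟩).hom, ← Category.assoc]
    trans 𝒰.f ⟨U, hU⟩ ≫ F
    · congr 1
      exact pullbackRestrictIsoRestrict_hom_ι p U
    exact Scheme.OpenCover.map_glueMorphismsOfLocallyDirected 𝒰 _ _ _
  exact ⟨F, hF, fun h hh => hom_ext_affine p fun U hU => (hh U hU).trans (hF U hU).symm⟩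

end glue

variable {Y P : Scheme.{u}} {𝒮 : RelProj.QCGrAlg Y} {p : P ⟶ Y}
  {chart : ∀ (U : Y.Opens) (hU : IsAffineOpen U), (((p ⁻¹ᵁ U : P.Opens) : Scheme.{u}) ≅ Proj (𝒮.deg U hU))}

theorem morphismRestrict_eq (hP : RelProj.IsRelProj 𝒮 p chart) (U : Y.Opens) (hU : IsAffineOpen U) :
    p ∣_ U = (chart U hU).hom ≫ Proj.toSpecZero (𝒮.deg U hU) ≫ Spec.map (𝒮.strZero U hU) ≫ hU.isoSpec.inv := by
  rw [← cancel_mono U.ι, morphismRestrict_ι, ← hP.chart_over U hU]
  simp only [Category.assoc, hU.isoSpec_inv_ι]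

/-- A property local on the target holds for a relative Proj as soon as it holds for the charts. -/
theorem property_of_charts (Q : MorphismProperty Scheme.{u}) [IsZariskiLocalAtTarget Q]
    (hP : RelProj.IsRelProj 𝒮 p chart)
    (h : ∀ (U : Y.Opens) (hU : IsAffineOpen U),
      Q (Proj.toSpecZero (𝒮.deg U hU) ≫ Spec.map (𝒮.strZero U hU))) : Q p := by
  rw [IsZariskiLocalAtTarget.iff_of_iSup_eq_top (P := Q) _ (iSup_affineOpens_eq_top Y)]
  intro U
  rw [morphismRestrict_eq hP U.1 U.2, Q.cancel_left_of_respectsIso, ← Category.assoc, Q.cancel_right_of_respectsIso]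
  exact h U.1 U.2

theorem isSeparated_of_isRelProj (hP : RelProj.IsRelProj 𝒮 p chart) : IsSeparated p :=
  property_of_charts @IsSeparated hP fun _ _ => inferInstance

theorem isRelProjMap_existsUnique {PA : Scheme.{u}} {𝒜 : RelProj.QCGrAlg Y} (φ : 𝒜.toQCAlg ⟶ 𝒮.toQCAlg)
    (hφ : RelProj.IsGradedHom φ)
    (hirr : ∀ (U : Y.Opens) (hU : IsAffineOpen U),
      (𝒮.deg U hU)₊ ≤ ((𝒜.deg U hU)₊).map (RelProj.gradedHomAt φ hφ U hU))
    {pA : PA ⟶ Y}
    {chartA : ∀ (U : Y.Opens) (hU : IsAffineOpen U), (((pA ⁻¹ᵁ U : PA.Opens) : Scheme.{u}) ≅ Proj (𝒜.deg U hU))}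
    (hA : RelProj.IsRelProj 𝒜 pA chartA) (hP : RelProj.IsRelProj 𝒮 p chart) :
    ∃! h : P ⟶ PA, RelProj.IsRelProjMap φ hφ hirr chartA chart h := by
  refine existsUnique_glue_affine p
    (fun U hU => (chart U hU).hom ≫ Proj.map (RelProj.gradedHomAt φ hφ U hU) (hirr U hU) ≫
      (chartA U hU).inv ≫ (pA ⁻¹ᵁ U).ι) fun U hU r => ?_
  rw [← Category.assoc, hP.chart_res U hU r, Category.assoc, ← Category.assoc (Proj.map _ _) (Proj.map _ _),
    ← Proj.map_comp]
  congr 1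
  have e : (RelProj.gradedHomAt φ hφ _ (hU.basicOpen r)).comp (𝒜.res hU (hU.basicOpen r) (Y.basicOpen_le r)) =
      (𝒮.res hU (hU.basicOpen r) (Y.basicOpen_le r)).comp (RelProj.gradedHomAt φ hφ U hU) := by
    refine GradedRingHom.ext fun a => ?_
    show (φ.hom.app (op (Y.basicOpen r))).hom ((𝒜.presheaf.map _).hom a) =
      (𝒮.presheaf.map _).hom ((φ.hom.app (op U)).hom a)
    rw [← CommRingCat.comp_apply, φ.hom.naturality]
    rfl
  rw [map_congr_hom _ _ e.symm (HomogeneousIdeal.irrelevant_le_map_comp (𝒜.irrelevant_le_map U hU r) (hirr _ (hU.basicOpen r))),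
    Proj.map_comp, Category.assoc]
  congr 1
  exact RelProj.map_res_emb hA U hU r
  exact hirr _ _

end GrothLib.RelProjK
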