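import Groth.Agent.Lib.RelProjK.Restrict
import Groth.Agent.Lib.GrTilde.OpenAmp
import Groth.Agent.Lib.SymAlgX.Glue
import Groth.Prelude.Def_RelProj2

/-!
# Relative ampleness of `O(1)` on a relative Proj generated in degree one
-/

set_option autoImplicit false
set_option backward.isDefEq.respectTransparency false

universe u

open CategoryTheory AlgebraicGeometry TopologicalSpace Opposite

noncomputable section

namespace GrothLib.RelProjK

variable {S : Scheme.{u}} {𝒮 : RelProj.QCGrAlg S}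

theorem isGenDegOne_of_isGrSymAlg {E : S.Modules} (hE : Coh.IsQCoh E) {j : E ⟶ 𝒮.toModule}
    (hj : RelProj.IsGrSymAlg E 𝒮 j) : 𝒮.IsGenDegOne := by
  intro U hU
  obtain ⟨e, hes, hej⟩ := SymAlgX.isAffSym_of_isSymAlg hE hj.1 U hU
  refine eq_top_iff.mpr fun a _ => ?_
  obtain ⟨b, rfl⟩ := e.surjective a
  induction b using SymmetricAlgebra.induction with
  | algebraMap r => rw [show e (algebraMap _ _ r) = _ from hes r]; exact Subring.subset_closure (Or.inl (𝒮.str_mem U hU r))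
  | ι x => rw [show e (SymmetricAlgebra.ι _ _ x) = _ from hej x]; exact Subring.subset_closure (Or.inr (hj.2 U hU x))
  | mul a b ha hb => rw [map_mul]; exact mul_mem (ha trivial) (hb trivial)
  | add a b ha hb => rw [map_add]; exact add_mem (ha trivial) (hb trivial)

variable {P X : Scheme.{u}} {p : P ⟶ S}
  {chart : ∀ (U : S.Opens) (hU : IsAffineOpen U), (((p ⁻¹ᵁ U : P.Opens) : Scheme.{u}) ≅ Proj (𝒮.deg U hU))}

theorem isAmple_pullback_twist_of_isEmbedding {R A : Type u} [CommRing R] [CommRing A] [Algebra R A]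
    {𝒜 : ℕ → Submodule R A} [GradedAlgebra 𝒜] [CompactSpace X] (l : X ⟶ Proj 𝒜) (hl : Topology.IsEmbedding l.base)
    (h1 : ∀ x : Proj 𝒜, ∃ f : A, f ∈ 𝒜 1 ∧ f ∉ x.asHomogeneousIdeal) :
    CohB1.IsAmple ((Scheme.Modules.pullback l).obj (Twist.twist 𝒜 1)) := by
  classical
  choose f hf hfx using fun x : X => h1 (l x)
  obtain ⟨t, ht⟩ := isCompact_univ.elim_finite_subcover (fun x => ((l ⁻¹ᵁ Proj.basicOpen 𝒜 (f x) : X.Opens) : Set X))
    (fun x => (l ⁻¹ᵁ Proj.basicOpen 𝒜 (f x)).2) (fun x _ => Set.mem_iUnion.mpr ⟨x, hfx x⟩)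
  let V : (Proj 𝒜).Opens := ⨆ x : t, Proj.basicOpen 𝒜 (f x.1)
  have hVc : IsCompact (V : Set (Proj 𝒜)) := by
    rw [Opens.coe_iSup]
    exact isCompact_iUnion fun x => (Proj.isAffineOpen_basicOpen 𝒜 _ (hf _) one_pos).isCompact
  haveI : CompactSpace (V : Scheme.{u}) := isCompact_iff_compactSpace.mp hVc
  have hA : CohB1.IsAmple ((Twist.twist 𝒜 1).restrict V.ι) :=
    GrTilde.isAmple_twist_restrict (N := 1) one_pos fun y hy => by
      obtain ⟨x, hxy⟩ := Opens.mem_iSup.mp hy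
      exact ⟨f x.1, hf _, hxy, le_iSup (fun x : t => Proj.basicOpen 𝒜 (f x.1)) x⟩
  have hrange : Set.range l ⊆ Set.range V.ι := by
    rintro _ ⟨x, rfl⟩
    obtain ⟨x', hx', hxx⟩ := Set.mem_iUnion₂.mp (ht (Set.mem_univ x))
    exact (Scheme.Opens.range_ι V).ge (Opens.mem_iSup.mpr ⟨⟨x', hx'⟩, hxx⟩)
  let m := IsOpenImmersion.lift V.ι l hrange
  have hm : m ≫ V.ι = l := IsOpenImmersion.lift_fac _ _ _
  have hme : Topology.IsEmbedding m.base := by
    refine Topology.IsEmbedding.of_comp (g := V.ι.base) m.continuous V.ι.continuous ?_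
    rw [← hm] at hl
    exact hl
  rw [Ample.isAmple_restrict_iff] at hA
  have h := Ample.isAmple_pullback_of_isEmbedding m hme hA
  rw [Ample.isAmple_pullback_comp_iff, hm] at h
  exact h

theorem isRelAmple_pullback_of_isEmbedding (hgen : 𝒮.IsGenDegOne) {O1 : P.Modules}
    {lam : ∀ (U : S.Opens) (hU : IsAffineOpen U),
      O1 ⟶ (Scheme.Modules.pushforward (RelProj.emb p chart U hU)).obj (GrTwist.twist (𝒮.deg U hU) 1)}
    (hO1 : RelProj.IsRelTwist 𝒮 p chart 1 O1 lam) (f : X ⟶ S) [QuasiCompact f]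
    (g : X ⟶ P) (hg : g ≫ p = f) (hemb : Topology.IsEmbedding g.base) :
    RelAmple.IsRelAmple f ((Scheme.Modules.pullback g).obj O1) := by
  refine ⟨inferInstance, fun V => ?_⟩
  obtain ⟨U, hU⟩ := V
  let W : X.Opens := f ⁻¹ᵁ U
  haveI : CompactSpace (W : Scheme.{u}) := isCompact_iff_compactSpace.mp (f.isCompact_preimage hU.isCompact)
  obtain ⟨l, hl⟩ := exists_lift_embZ p chart U hU (W.ι ≫ g) (fun x => by
    show p (g (W.ι x)) ∈ U
    have : p (g (W.ι x)) = f (W.ι x) := by rw [← hg]; rfl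
    rw [this]; exact x.2)
  have hle : Topology.IsEmbedding l.base := by
    refine Topology.IsEmbedding.of_comp (g := (embZ p chart U hU).base) l.continuous (embZ p chart U hU).continuous ?_
    have h0 : Topology.IsEmbedding (W.ι ≫ g).base := hemb.comp W.ι.isOpenEmbedding.isEmbedding
    rw [← hl] at h0
    exact h0
  obtain ⟨e⟩ := nonempty_pullback_embZ_iso U hU hO1
  have h := isAmple_pullback_twist_of_isEmbedding l hle (exists_deg_one_notMem (𝒮.deg U hU) (hgen U hU))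
  rw [← Ample.isAmple_iff_of_iso ((Scheme.Modules.pullback l).mapIso e), Ample.isAmple_pullback_comp_iff, hl,
    ← Ample.isAmple_pullback_comp_iff, ← Ample.isAmple_restrict_iff] at h
  exact h

end GrothLib.RelProjK

namespace GrothLib.RelProjK

theorem isRelAmple_of_iso {X Y : Scheme.{u}} {f : X ⟶ Y} {L M : X.Modules} (e : L ≅ M)
    (h : RelAmple.IsRelAmple f M) : RelAmple.IsRelAmple f L :=
  ⟨h.1, fun V => (Ample.isAmple_iff_of_iso ((Scheme.Modules.restrictFunctor (f ⁻¹ᵁ V.1).ι).mapIso e)).mpr (h.2 V)⟩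

theorem isRelAmple_of_isRelVeryAmple {X Y : Scheme.{u}} (f : X ⟶ Y) [QuasiCompact f] (L : X.Modules)
    (h : RelProj.IsRelVeryAmple f L) : RelAmple.IsRelAmple f L := by
  obtain ⟨E, hE, 𝒮, j, hj, P, p, chart, hP, O1, lam, hO1, i, hi, hip, ⟨e⟩⟩ := h
  exact isRelAmple_of_iso e
    (isRelAmple_pullback_of_isEmbedding (isGenDegOne_of_isGrSymAlg hE hj) hO1 f i hip i.isEmbedding)

theorem isRelAmple_of_tensorPow {X Y : Scheme.{u}} (f : X ⟶ Y) {L : X.Modules} (hL : PicF.IsInvertible L)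
    {n : ℕ} (hn : 0 < n) (h : RelAmple.IsRelAmple f (CohB1.tensorPow L n)) : RelAmple.IsRelAmple f L := by
  refine ⟨h.1, fun V => ?_⟩
  let j := (f ⁻¹ᵁ V.1).ι
  have h' := (Ample.isAmple_restrict_iff j _).mp (h.2 V)
  obtain ⟨e⟩ := Ample.nonempty_pullback_tensorPow j hL n
  obtain ⟨c, ⟨d⟩⟩ := Ample.exists_cocycle hL
  obtain ⟨d'⟩ := c.nonempty_pullback_iso j d
  rw [Ample.isAmple_iff_of_iso e, ← Ample.isAmple_tensorPow_iff ((c.comap j).isInvertible_of_iso d') hn,
    ← Ample.isAmple_restrict_iff] at h'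
  exact h'

end GrothLib.RelProjK
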