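import Groth.Prelude.Def_GrTwist
import Mathlib.RingTheory.Localization.Away.Basic

/-!
# Twists along the localisation at an element of degree zero
-/

set_option autoImplicit false
set_option backward.isDefEq.respectTransparency false

universe u

open CategoryTheory AlgebraicGeometry TopologicalSpace Opposite
open scoped HomogeneousIdeal

noncomputable section

namespace GrothLib.RelProjK

variable {A B : Type u} [CommRing A] [CommRing B] {σ τ : Type u} [SetLike σ A] [AddSubgroupClass σ A]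
  [SetLike τ B] [AddSubgroupClass τ B] {𝒜 : ℕ → σ} {ℬ : ℕ → τ} [GradedRing 𝒜] [GradedRing ℬ]
  (ψ : 𝒜 →+*ᵍ ℬ) (hψ : ℬ₊ ≤ (𝒜₊).map ψ)

theorem locMap_comp {C υ : Type u} [CommRing C] [SetLike υ C] [AddSubgroupClass υ C] {𝒞 : ℕ → υ} [GradedRing 𝒞]
    (χ : ℬ →+*ᵍ 𝒞) (hχ : 𝒞₊ ≤ (ℬ₊).map χ) (ω : 𝒜 →+*ᵍ 𝒞) (hω : 𝒞₊ ≤ (𝒜₊).map ω)
    (heq : ∀ a, χ (ψ a) = ω a) (z : ProjectiveSpectrum 𝒞) :
    ∃ e : ProjectiveSpectrum.comap ψ hψ (ProjectiveSpectrum.comap χ hχ z) = ProjectiveSpectrum.comap ω hω z,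
      ∀ (x : ProjectiveSpectrum 𝒜) (h : x = ProjectiveSpectrum.comap ψ hψ (ProjectiveSpectrum.comap χ hχ z))
        (q : GrTwist.Loc 𝒜 x),
        GrTwist.locMap χ hχ z (GrTwist.locMap ψ hψ _ (h ▸ q)) = GrTwist.locMap ω hω z ((h.trans e) ▸ q) := by
  have e : ProjectiveSpectrum.comap ψ hψ (ProjectiveSpectrum.comap χ hχ z) = ProjectiveSpectrum.comap ω hω z := by
    refine ProjectiveSpectrum.ext (HomogeneousIdeal.ext (Ideal.ext fun a => ?_))
    show χ (ψ a) ∈ z.asHomogeneousIdeal ↔ ω a ∈ z.asHomogeneousIdeal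
    rw [heq]
  refine ⟨e, fun x h q => ?_⟩
  subst h
  have key : ∀ (w : ProjectiveSpectrum 𝒜) (hw : ProjectiveSpectrum.comap ψ hψ (ProjectiveSpectrum.comap χ hχ z) = w)
      (a : A) (s : (ProjectiveSpectrum.comap ψ hψ (ProjectiveSpectrum.comap χ hχ z)).asHomogeneousIdeal.toIdeal.primeCompl),
      ∃ s' : w.asHomogeneousIdeal.toIdeal.primeCompl, (s' : A) = s ∧
        (hw ▸ (Localization.mk a s) : GrTwist.Loc 𝒜 w) = Localization.mk a s' := by
    intro w hw a s
    subst hw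
    exact ⟨s, rfl, rfl⟩
  induction q using Localization.induction_on with
  | H q =>
    obtain ⟨a, s⟩ := q
    obtain ⟨s', hs', hq⟩ := key _ e a s
    refine Eq.trans ?_ (congrArg (GrTwist.locMap ω hω z) hq).symm
    rw [GrTwist.locMap_mk, GrTwist.locMap_mk, GrTwist.locMap_mk]
    simp only [heq, hs']

variable (c : A) (hc : c ∈ 𝒜 0) (hloc : letI := ψ.toRingHom.toAlgebra; IsLocalization.Away c B)

include hloc in
theorem exists_num (b : B) : ∃ (k : ℕ) (a : A), ψ a = ψ c ^ k * b := by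
  letI := ψ.toRingHom.toAlgebra
  haveI := hloc
  obtain ⟨⟨a, s, k, rfl⟩, h⟩ := IsLocalization.surj (Submonoid.powers c) b
  refine ⟨k, a, ?_⟩
  have h' : b * ψ (c ^ k) = ψ a := h
  rw [← h', map_pow, mul_comm]

include hloc in
theorem exists_kill {a : A} (h : ψ a = 0) : ∃ k : ℕ, c ^ k * a = 0 := by
  letI := ψ.toRingHom.toAlgebra
  haveI := hloc
  obtain ⟨⟨s, k, rfl⟩, hk⟩ := (IsLocalization.map_eq_zero_iff (Submonoid.powers c) B a).mp h
  exact ⟨k, hk⟩

include hloc in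
theorem isUnit_map : IsUnit (ψ c) := by
  letI := ψ.toRingHom.toAlgebra
  haveI := hloc
  exact IsLocalization.Away.algebraMap_isUnit (S := B) c

include hloc in
theorem map_notMem (y : ProjectiveSpectrum ℬ) : ψ c ∉ y.asHomogeneousIdeal := fun h =>
  y.isPrime.ne_top (Ideal.eq_top_of_isUnit_mem _ h (isUnit_map ψ c hloc))

include hloc hc in
theorem exists_homogeneous_num {i : ℕ} {b : B} (hb : b ∈ ℬ i) :
    ∃ (k : ℕ) (a : A), a ∈ 𝒜 i ∧ ψ a = ψ c ^ k * b := by
  classical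
  obtain ⟨k, a, ha⟩ := exists_num ψ c hloc b
  refine ⟨k, DirectSum.decompose 𝒜 a i, SetLike.coe_mem _, ?_⟩
  rw [GradedRingHom.map_directSumDecompose, ha]
  refine DirectSum.decompose_of_mem_same ℬ ?_
  have h0 : ψ c ^ k ∈ ℬ 0 := by simpa using SetLike.pow_mem_graded k (ψ.map_mem hc)
  simpa using SetLike.mul_mem_graded h0 hb

include hloc in
theorem bijective_locMap (y : ProjectiveSpectrum ℬ) : Function.Bijective (GrTwist.locMap ψ hψ y) := by
  constructor
  · intro p q hpq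
    induction p using Localization.induction_on with
    | H p => induction q using Localization.induction_on with
      | H q =>
        obtain ⟨a, s⟩ := p
        obtain ⟨b, t⟩ := q
        rw [GrTwist.locMap_mk, GrTwist.locMap_mk, Localization.mk_eq_mk_iff, Localization.r_iff_exists] at hpq
        obtain ⟨⟨v, hv⟩, hvv⟩ := hpq
        obtain ⟨k, v', hv'⟩ := exists_num ψ c hloc v
        have h0 : ψ (v' * ((t : A) * a - (s : A) * b)) = 0 := by
          have hvv' : v * (ψ (t : A) * ψ a) = v * (ψ (s : A) * ψ b) := hvv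
          rw [map_mul, map_sub, map_mul, map_mul, hv', mul_assoc, mul_sub, hvv', sub_self, mul_zero]
        obtain ⟨m, hm⟩ := exists_kill ψ c hloc h0
        have hmem : c ^ m * v' ∈ (ProjectiveSpectrum.comap ψ hψ y).asHomogeneousIdeal.toIdeal.primeCompl := by
          intro hmem
          have hmem' : ψ (c ^ m * v') ∈ y.asHomogeneousIdeal.toIdeal := hmem
          rw [map_mul, map_pow, hv', ← mul_assoc, ← pow_add] at hmem'
          rcases y.isPrime.mem_or_mem hmem' with h | h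
          · exact map_notMem ψ c hloc y (y.isPrime.mem_of_pow_mem _ h)
          · exact hv h
        rw [Localization.mk_eq_mk_iff, Localization.r_iff_exists]
        exact ⟨⟨_, hmem⟩, sub_eq_zero.mp (by
          show c ^ m * v' * ((t : A) * a) - c ^ m * v' * ((s : A) * b) = 0
          rw [← hm]; ring)⟩
  · intro q
    induction q using Localization.induction_on with
    | H q =>
      obtain ⟨b, ⟨t, ht⟩⟩ := q
      obtain ⟨k, a, ha⟩ := exists_num ψ c hloc b
      obtain ⟨l, t', ht'⟩ := exists_num ψ c hloc t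
      have hmem : c ^ k * t' ∈ (ProjectiveSpectrum.comap ψ hψ y).asHomogeneousIdeal.toIdeal.primeCompl := by
        intro hmem
        have hmem' : ψ (c ^ k * t') ∈ y.asHomogeneousIdeal.toIdeal := hmem
        rw [map_mul, map_pow, ht', ← mul_assoc, ← pow_add] at hmem'
        rcases y.isPrime.mem_or_mem hmem' with h | h
        · exact map_notMem ψ c hloc y (y.isPrime.mem_of_pow_mem _ h)
        · exact ht h
      refine ⟨Localization.mk (c ^ l * a) ⟨c ^ k * t', hmem⟩, ?_⟩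
      rw [GrTwist.locMap_mk, Localization.mk_eq_mk_iff, Localization.r_iff_exists]
      refine ⟨1, ?_⟩
      simp only [OneMemClass.coe_one, one_mul, map_mul, map_pow, ha, ht']
      ring

include hloc hc in
/-- Sections of a twist over an open inside the localised spectrum are those downstairs. -/
theorem bijective_comapApp_of_away [IsOpenImmersion (Proj.map ψ hψ)] (n : ℤ)
    (U : Opens (ProjectiveSpectrum.top 𝒜)) (V : Opens (ProjectiveSpectrum.top ℬ))
    (hUV : ∀ y : ProjectiveSpectrum ℬ, y ∈ V ↔ ProjectiveSpectrum.comap ψ hψ y ∈ U)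
    (hU : ∀ x ∈ U, ∃ y : ProjectiveSpectrum ℬ, ProjectiveSpectrum.comap ψ hψ y = x) :
    Function.Bijective (GrTwist.comapApp ψ hψ n U V (fun y hy => (hUV y).mp hy)) := by
  constructor
  · intro s t hst
    refine Subtype.ext (funext fun x => Subtype.ext ?_)
    obtain ⟨x, hx⟩ := x
    obtain ⟨y, rfl⟩ := hU x hx
    refine (bijective_locMap ψ hψ c hloc y).1 ?_
    exact congrArg (fun w => ((w : GrTwist.sectN (𝒜 := ℬ) n (op V)).1 ⟨y, (hUV y).mpr hx⟩ : GrTwist.Loc ℬ y)) hst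
  · intro t
    have hinj : Function.Injective (ProjectiveSpectrum.comap ψ hψ) :=
      (Proj.map ψ hψ).isOpenEmbedding.injective
    have hex : ∀ x : U, ∃ q : GrTwist.Loc 𝒜 x.1, ∀ (y : ProjectiveSpectrum ℬ) (hy : ProjectiveSpectrum.comap ψ hψ y = x.1),
        GrTwist.locMap ψ hψ y (hy ▸ q) =
          (t.1 ⟨y, (hUV y).mpr (hy.symm ▸ x.2)⟩ : GrTwist.Loc ℬ y) := by
      rintro ⟨x, hx⟩
      obtain ⟨y, rfl⟩ := hU x hx
      obtain ⟨q, hq⟩ := (bijective_locMap ψ hψ c hloc y).2 (t.1 ⟨y, (hUV y).mpr hx⟩ : GrTwist.Loc ℬ y)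
      refine ⟨q, fun y' hy' => ?_⟩
      obtain rfl := hinj hy'
      exact hq
    choose q hq using hex
    have hrep : ∀ x : U, ∃ (W : Opens (ProjectiveSpectrum.top 𝒜)) (_ : x.1 ∈ W) (hW : W ≤ U) (i j : ℕ)
        (a : 𝒜 i) (s : 𝒜 j) (nin : ∀ w : W, (s : A) ∉ w.1.asHomogeneousIdeal),
        ((i : ℤ) = j + n ∨ (a : A) = 0) ∧
          ∀ w : W, q ⟨w.1, hW w.2⟩ = Localization.mk (a : A) ⟨s, nin w⟩ := by
      rintro ⟨x, hx⟩
      obtain ⟨y, rfl⟩ := hU x hx
      have ht : (GrTwist.isLocFracN ℬ n).pred t.1 := t.2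
      obtain ⟨W, hW, iW, i, j, ⟨b, hb⟩, ⟨u, hu⟩, nin, hd, hw⟩ := ht ⟨y, (hUV y).mpr hx⟩
      obtain ⟨k, a, ha, hka, hd'⟩ : ∃ (k : ℕ) (a : A), a ∈ 𝒜 i ∧ ψ a = ψ c ^ k * b ∧ ((i : ℤ) = j + n ∨ a = 0) := by
        rcases hd with h | h
        · obtain ⟨k, a, ha, hka⟩ := exists_homogeneous_num ψ c hc hloc hb
          exact ⟨k, a, ha, hka, Or.inl h⟩
        · exact ⟨0, 0, zero_mem _, by simp [show b = 0 from h], Or.inr rfl⟩
      obtain ⟨l, u', hu', hlu⟩ := exists_homogeneous_num ψ c hc hloc hu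
      let W' : Opens (ProjectiveSpectrum.top 𝒜) :=
        (⟨ProjectiveSpectrum.comap ψ hψ '' (show Set (ProjectiveSpectrum ℬ) from (W : Set (ProjectiveSpectrum.top ℬ))),
          (Proj.map ψ hψ).isOpenEmbedding.isOpenMap (W : Set (ProjectiveSpectrum.top ℬ)) W.2⟩ :
          Opens (ProjectiveSpectrum.top 𝒜))
      have hW' : W' ≤ U := by
        rintro _ ⟨z, hz, rfl⟩
        exact (hUV z).mp (leOfHom iW hz)
      have hz0 : ∀ (m : ℕ), c ^ m ∈ 𝒜 0 := fun m => by simpa using SetLike.pow_mem_graded m hc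
      have nin' : ∀ w : W', c ^ k * u' ∉ w.1.asHomogeneousIdeal := by
        rintro ⟨_, z, hz, rfl⟩ hmem
        have hmem' : ψ (c ^ k * u') ∈ z.asHomogeneousIdeal.toIdeal := hmem
        rw [map_mul, map_pow, hlu, ← mul_assoc, ← pow_add] at hmem'
        rcases z.isPrime.mem_or_mem hmem' with h | h
        · exact map_notMem ψ c hloc z (z.isPrime.mem_of_pow_mem _ h)
        · exact nin ⟨z, hz⟩ h
      refine ⟨W', ⟨y, hW, rfl⟩, hW', i, j, ⟨c ^ l * a, by simpa using SetLike.mul_mem_graded (hz0 l) ha⟩,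
        ⟨c ^ k * u', by simpa using SetLike.mul_mem_graded (hz0 k) hu'⟩, nin', ?_, ?_⟩
      · exact hd'.imp id fun h => show c ^ l * a = 0 by rw [h, mul_zero]
      · rintro ⟨_, z, hz, rfl⟩
        refine (bijective_locMap ψ hψ c hloc z).1 ?_
        refine (hq ⟨_, hW' ⟨z, hz, rfl⟩⟩ z rfl).trans ?_
        refine (hw ⟨z, hz⟩).trans ?_
        rw [GrTwist.locMap_mk, Localization.mk_eq_mk_iff, Localization.r_iff_exists]
        refine ⟨1, ?_⟩
        simp only [OneMemClass.coe_one, one_mul, map_mul, map_pow, hka, hlu]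
        ring
    have hmem : ∀ x : U, q x ∈ GrTwist.twistAt 𝒜 n x.1 := fun x => by
      obtain ⟨W, hxW, hW, i, j, a, s, nin, hd, hval⟩ := hrep x
      rw [show q x = _ from hval ⟨x.1, hxW⟩]
      rcases hd with h | h
      · exact Submodule.subset_span ⟨i, j, a, s, nin ⟨x.1, hxW⟩, h, rfl⟩
      · rw [h, Localization.mk_zero]; exact zero_mem _
    refine ⟨⟨fun x => ⟨q x, hmem x⟩, fun x => ?_⟩, ?_⟩
    · obtain ⟨W, hxW, hW, i, j, a, s, nin, hd, hval⟩ := hrep x
      exact ⟨W, hxW, homOfLE hW, i, j, a, s, nin, hd, hval⟩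
    · exact Subtype.ext (funext fun y => Subtype.ext (hq ⟨_, (hUV y.1).mp y.2⟩ y.1 rfl))

end GrothLib.RelProjK
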