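import Groth.Prelude.Def_RelProj2
import Groth.Agent.Lib.RelProjK.Away

/-!
# The comparison maps of twists between the charts of a relative Proj
-/

set_option autoImplicit false
set_option backward.isDefEq.respectTransparency false

universe u

open CategoryTheory AlgebraicGeometry TopologicalSpace Opposite
open scoped HomogeneousIdeal

noncomputable section

namespace GrothLib.RelProjK

variable {S P : Scheme.{u}} {𝒮 : RelProj.QCGrAlg S} {p : P ⟶ S}
  {chart : ∀ (U : S.Opens) (hU : IsAffineOpen U), (((p ⁻¹ᵁ U : P.Opens) : Scheme.{u}) ≅ Proj (𝒮.deg U hU))}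

variable (𝒮) in
/-- The grading over an affine open. -/
abbrev dg (U : S.AffineZariskiSite) : ℕ → AddSubgroup (𝒮.presheaf.obj (op U.1)) := 𝒮.deg U.1 U.2

variable (𝒮) in
/-- The restriction between affine opens, one basic in the other. -/
abbrev rs {U V : S.AffineZariskiSite} (h : V ≤ U) : dg 𝒮 U →+*ᵍ dg 𝒮 V :=
  𝒮.res U.2 V.2 (Scheme.AffineZariskiSite.toOpens_mono h)

variable (𝒮) in
theorem rs_irr {U V : S.AffineZariskiSite} (h : V ≤ U) : (dg 𝒮 V)₊ ≤ ((dg 𝒮 U)₊).map (rs 𝒮 h) := by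
  obtain ⟨V, hV⟩ := V
  obtain ⟨r, hr⟩ := id h
  obtain rfl : S.basicOpen r = V := hr
  exact 𝒮.irrelevant_le_map U.1 U.2 r

variable (𝒮) in
theorem rs_comp {U V W : S.AffineZariskiSite} (h : V ≤ U) (h' : W ≤ V) (a : 𝒮.presheaf.obj (op U.1)) :
    rs 𝒮 h' (rs 𝒮 h a) = rs 𝒮 (h'.trans h) a := by
  show (𝒮.presheaf.map _).hom ((𝒮.presheaf.map _).hom a) = (𝒮.presheaf.map _).hom a
  rw [← CommRingCat.comp_apply, ← 𝒮.presheaf.map_comp]
  rfl

variable (𝒮) in
theorem rs_away {U V : S.AffineZariskiSite} (h : V ≤ U) :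
    ∃ c : 𝒮.presheaf.obj (op U.1), c ∈ dg 𝒮 U 0 ∧
      (letI := (rs 𝒮 h).toRingHom.toAlgebra; IsLocalization.Away c (𝒮.presheaf.obj (op V.1))) := by
  obtain ⟨V, hV⟩ := V
  obtain ⟨r, hr⟩ := id h
  obtain rfl : S.basicOpen r = V := hr
  exact ⟨_, 𝒮.str_mem U.1 U.2 r, 𝒮.isQC U.1 U.2 r⟩

/-- The charts, on the site of affine opens. -/
abbrev em (p : P ⟶ S)
    (chart : ∀ (U : S.Opens) (hU : IsAffineOpen U), (((p ⁻¹ᵁ U : P.Opens) : Scheme.{u}) ≅ Proj (𝒮.deg U hU)))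
    (U : S.AffineZariskiSite) : Proj (dg 𝒮 U) ⟶ P := RelProj.emb p chart U.1 U.2

theorem map_rs_em (hP : RelProj.IsRelProj 𝒮 p chart) {U V : S.AffineZariskiSite} (h : V ≤ U) :
    Proj.map (rs 𝒮 h) (rs_irr 𝒮 h) ≫ em p chart U = em p chart V := by
  obtain ⟨V, hV⟩ := V
  obtain ⟨r, hr⟩ := id h
  obtain rfl : S.basicOpen r = V := hr
  exact RelProj.map_res_emb hP U.1 U.2 r

theorem em_comap (hP : RelProj.IsRelProj 𝒮 p chart) {U V : S.AffineZariskiSite} (h : V ≤ U)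
    (y : ProjectiveSpectrum (dg 𝒮 V)) :
    em p chart U (ProjectiveSpectrum.comap (rs 𝒮 h) (rs_irr 𝒮 h) y) = em p chart V y := by
  rw [← map_rs_em hP h]; rfl

theorem mem_opensRange_em (U : S.AffineZariskiSite) {x : P} :
    x ∈ (em p chart U).opensRange ↔ p x ∈ U.1 := by
  have : (em p chart U).opensRange = p ⁻¹ᵁ U.1 := by
    show ((chart U.1 U.2).inv ≫ (p ⁻¹ᵁ U.1).ι).opensRange = _
    rw [Scheme.Hom.opensRange_comp_of_isIso, Scheme.Opens.opensRange_ι]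
  rw [this]; rfl

theorem isOpenImmersion_map_rs (hP : RelProj.IsRelProj 𝒮 p chart) {U V : S.AffineZariskiSite} (h : V ≤ U) :
    IsOpenImmersion (Proj.map (rs 𝒮 h) (rs_irr 𝒮 h)) := by
  haveI : IsOpenImmersion (Proj.map (rs 𝒮 h) (rs_irr 𝒮 h) ≫ em p chart U) := by
    rw [map_rs_em hP h]; infer_instance
  exact IsOpenImmersion.of_comp _ (em p chart U)

variable (p chart) in
/-- The twist of a chart, pushed to the relative Proj. -/
abbrev Tw (n : ℤ) (U : S.AffineZariskiSite) : P.Modules :=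
  (Scheme.Modules.pushforward (em p chart U)).obj (GrTwist.twist (dg 𝒮 U) n)

/-- The value of a section at a point of the chart. -/
abbrev vl {n : ℤ} {U : S.AffineZariskiSite} {W : P.Opens} (t : Γ(Tw p chart n U, W))
    (y : ProjectiveSpectrum (dg 𝒮 U)) (hy : em p chart U y ∈ W) : GrTwist.Loc (dg 𝒮 U) y :=
  GrTwist.val (V := em p chart U ⁻¹ᵁ W) t ⟨y, hy⟩

theorem vl_ext {n : ℤ} {U : S.AffineZariskiSite} {W : P.Opens} {t t' : Γ(Tw p chart n U, W)}
    (h : ∀ y hy, vl t y hy = vl t' y hy) : t = t' :=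
  Subtype.ext (funext fun y => Subtype.ext (h y.1 y.2))

/-- The comparison map from a chart to a basic sub-chart. -/
def cm (hP : RelProj.IsRelProj 𝒮 p chart) (n : ℤ) {U V : S.AffineZariskiSite} (h : V ≤ U) :
    Tw p chart n U ⟶ Tw p chart n V :=
  (Scheme.Modules.pushforward (em p chart U)).map (GrTwist.comap (rs 𝒮 h) (rs_irr 𝒮 h) n) ≫
    (Scheme.Modules.pushforwardComp (Proj.map (rs 𝒮 h) (rs_irr 𝒮 h)) (em p chart U)).hom.app _ ≫
      (Scheme.Modules.pushforwardCongr (map_rs_em hP h)).hom.app _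

theorem vl_cm (hP : RelProj.IsRelProj 𝒮 p chart) {n : ℤ} {U V : S.AffineZariskiSite} (h : V ≤ U) {W : P.Opens}
    (t : Γ(Tw p chart n U, W)) (y : ProjectiveSpectrum (dg 𝒮 V)) (hy : em p chart V y ∈ W) :
    vl ((cm hP n h).app W t) y hy =
      GrTwist.locMap (rs 𝒮 h) (rs_irr 𝒮 h) y
        (vl t (ProjectiveSpectrum.comap (rs 𝒮 h) (rs_irr 𝒮 h) y) ((em_comap hP h y).symm ▸ hy)) := rfl

theorem cm_comp (hP : RelProj.IsRelProj 𝒮 p chart) {n : ℤ} {U V V' : S.AffineZariskiSite} (h : V ≤ U) (h' : V' ≤ V)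
    {W : P.Opens} (t : Γ(Tw p chart n U, W)) :
    (cm hP n h').app W ((cm hP n h).app W t) = (cm hP n (h'.trans h)).app W t := by
  refine vl_ext fun y hy => ?_
  rw [vl_cm, vl_cm, vl_cm]
  obtain ⟨e, he⟩ := locMap_comp (rs 𝒮 h) (rs_irr 𝒮 h) (rs 𝒮 h') (rs_irr 𝒮 h') (rs 𝒮 (h'.trans h))
    (rs_irr 𝒮 (h'.trans h)) (rs_comp 𝒮 h h') y
  refine (he _ rfl _).trans (congrArg _ ?_)
  have key : ∀ (x x' : ProjectiveSpectrum (dg 𝒮 U)) (hx : em p chart U x ∈ W) (hx' : em p chart U x' ∈ W)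
      (e : x = x'), (e ▸ vl t x hx : GrTwist.Loc (dg 𝒮 U) x') = vl t x' hx' := by
    intro x x' hx hx' e
    subst e
    rfl
  exact key _ _ _ _ e

/-- Inside the sub-chart the comparison is bijective. -/
theorem bijective_cm (hP : RelProj.IsRelProj 𝒮 p chart) {n : ℤ} {U V : S.AffineZariskiSite} (h : V ≤ U)
    {W : P.Opens} (hW : W ≤ p ⁻¹ᵁ V.1) : Function.Bijective ((cm hP n h).app W) := by
  haveI := isOpenImmersion_map_rs hP h
  obtain ⟨c, hc, hloc⟩ := rs_away 𝒮 h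
  exact bijective_comapApp_of_away (rs 𝒮 h) (rs_irr 𝒮 h) c hc hloc n (em p chart U ⁻¹ᵁ W) (em p chart V ⁻¹ᵁ W)
    (fun y => show em p chart V y ∈ W ↔ em p chart U (ProjectiveSpectrum.comap (rs 𝒮 h) (rs_irr 𝒮 h) y) ∈ W by
      rw [em_comap hP h])
    fun x hx => by
      obtain ⟨y, hy⟩ := (mem_opensRange_em (chart := chart) V).mpr (hW hx)
      refine ⟨y, (em p chart U).isOpenEmbedding.injective ?_⟩
      rw [← hy, ← em_comap hP h y]

end GrothLib.RelProjK
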