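import Groth.Agent.Lib.RelProjK.OpenMap
import Groth.Agent.Lib.RelProjK.Comap
import Mathlib.AlgebraicGeometry.Sites.SmallAffineZariski

/-!
# Existence of the relative homogeneous spectrum
-/

set_option autoImplicit false
set_option backward.isDefEq.respectTransparency false

universe u

open CategoryTheory CategoryTheory.Limits AlgebraicGeometry TopologicalSpace Opposite
open scoped HomogeneousIdeal

noncomputable section

namespace GrothLib.RelProjK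

variable {Y : Scheme.{u}} (𝒮 : RelProj.QCGrAlg Y)

theorem dg_res_self (U : Y.AffineZariskiSite) (h : U ≤ U) : rs 𝒮 h = GradedRingHom.id (dg 𝒮 U) := by
  refine GradedRingHom.ext fun a => ?_
  show (𝒮.presheaf.map _).hom a = a
  rw [show (homOfLE (Scheme.AffineZariskiSite.toOpens_mono h)).op = 𝟙 (op U.1) from rfl, 𝒮.presheaf.map_id]
  rfl

theorem map_rs_self (U : Y.AffineZariskiSite) (h : U ≤ U) :
    Proj.map (rs 𝒮 h) (rs_irr 𝒮 h) = 𝟙 (Proj (dg 𝒮 U)) :=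
  (map_congr_hom _ _ (dg_res_self 𝒮 U h) (by simp)).trans Proj.map_id

theorem map_rs_rs {U V W : Y.AffineZariskiSite} (h : V ≤ U) (h' : W ≤ V) :
    Proj.map (rs 𝒮 h') (rs_irr 𝒮 h') ≫ Proj.map (rs 𝒮 h) (rs_irr 𝒮 h) =
      Proj.map (rs 𝒮 (h'.trans h)) (rs_irr 𝒮 (h'.trans h)) := by
  rw [← Proj.map_comp]
  exact map_congr_hom _ _ (GradedRingHom.ext fun a => rs_comp 𝒮 h h' a) _

/-- The charts of the relative Proj, as a functor on the affine opens. -/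
def projFunctor : Y.AffineZariskiSite ⥤ Scheme.{u} where
  obj U := Proj (dg 𝒮 U)
  map h := Proj.map (rs 𝒮 (leOfHom h)) (rs_irr 𝒮 (leOfHom h))
  map_id U := map_rs_self 𝒮 U _
  map_comp h h' := (map_rs_rs 𝒮 (leOfHom h') (leOfHom h)).symm

/-- The structure morphism of a chart. -/
def projBase (U : Y.AffineZariskiSite) : Proj (dg 𝒮 U) ⟶ (U.1 : Scheme.{u}) :=
  Proj.toSpecZero (dg 𝒮 U) ≫ Spec.map (𝒮.strZero U.1 U.2) ≫ U.2.isoSpec.inv

theorem projBase_ι (U : Y.AffineZariskiSite) :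
    projBase 𝒮 U ≫ U.1.ι = Proj.toSpecZero (dg 𝒮 U) ≫ Spec.map (𝒮.strZero U.1 U.2) ≫ U.2.fromSpec := by
  rw [projBase, Category.assoc, Category.assoc, U.2.isoSpec_inv_ι]

theorem strZero_res {U V : Y.AffineZariskiSite} (h : V ≤ U) :
    Y.presheaf.map (homOfLE (Scheme.AffineZariskiSite.toOpens_mono h)).op ≫ 𝒮.strZero V.1 V.2 =
      𝒮.strZero U.1 U.2 ≫ zeroHom (rs 𝒮 h) := by
  refine CommRingCat.hom_ext (RingHom.ext fun a => Subtype.ext ?_)
  show (𝒮.str.app (op V.1)).hom ((Y.presheaf.map _).hom a) = (𝒮.presheaf.map _).hom ((𝒮.str.app (op U.1)).hom a)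
  rw [← CommRingCat.comp_apply, 𝒮.str.naturality]
  rfl

theorem map_projBase_ι {U V : Y.AffineZariskiSite} (h : V ≤ U) :
    Proj.map (rs 𝒮 h) (rs_irr 𝒮 h) ≫ projBase 𝒮 U ≫ U.1.ι = projBase 𝒮 V ≫ V.1.ι := by
  rw [projBase_ι, projBase_ι, ← Category.assoc, map_toSpecZero, Category.assoc, ← Spec.map_comp_assoc,
    ← strZero_res 𝒮 h, Spec.map_comp_assoc, U.2.map_fromSpec V.2]

theorem projBase_preimage_basicOpen (U : Y.AffineZariskiSite) (r : Γ(Y, U.1)) :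
    (projBase 𝒮 U ≫ U.1.ι) ⁻¹ᵁ Y.basicOpen r = Proj.basicOpen (dg 𝒮 U) ((𝒮.str.app (op U.1)).hom r) := by
  rw [projBase_ι]
  show Proj.toSpecZero (dg 𝒮 U) ⁻¹ᵁ (Spec.map (𝒮.strZero U.1 U.2) ⁻¹ᵁ (U.2.fromSpec ⁻¹ᵁ Y.basicOpen r)) = _
  rw [U.2.fromSpec_preimage_basicOpen]
  exact toSpecZero_preimage_basicOpen (𝒮.str_mem U.1 U.2 r)

theorem isPullback_projBase {U V : Y.AffineZariskiSite} (h : V ≤ U) :
    IsPullback (Proj.map (rs 𝒮 h) (rs_irr 𝒮 h)) (projBase 𝒮 V) (projBase 𝒮 U)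
      (Y.homOfLE (Scheme.AffineZariskiSite.toOpens_mono h)) := by
  obtain ⟨V, hV⟩ := V
  obtain ⟨r, hr⟩ := id h
  obtain rfl : Y.basicOpen r = V := hr
  obtain ⟨ho, hrange⟩ := isOpenImmersion_map_of_away (rs 𝒮 h) (rs_irr 𝒮 h) _ (𝒮.str_mem U.1 U.2 r) (𝒮.isQC U.1 U.2 r)
  haveI := ho
  refine (IsOpenImmersion.isPullback _ _ _ _ ?_ ?_).flip
  · rw [← cancel_mono U.1.ι, Category.assoc, Category.assoc, Scheme.homOfLE_ι]
    exact map_projBase_ι 𝒮 h
  · refine TopologicalSpace.Opens.ext (Eq.trans ?_ hrange.symm)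
    rw [← projBase_preimage_basicOpen]
    ext x
    show projBase 𝒮 U x ∈ Set.range _ ↔ (projBase 𝒮 U x).1 ∈ Y.basicOpen r
    rw [← Scheme.Hom.coe_opensRange, Scheme.opensRange_homOfLE]
    rfl

/-- The gluing datum of the relative Proj. -/
def projData : (Scheme.AffineZariskiSite.directedCover Y).RelativeGluingData where
  functor := projFunctor 𝒮
  natTrans :=
    { app := fun U => projBase 𝒮 U
      naturality := fun _ _ h => (isPullback_projBase 𝒮 (leOfHom h)).w }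
  equifibered := fun _ _ h => isPullback_projBase 𝒮 (leOfHom h)

/-- The relative Proj. -/
def proj : Scheme.{u} := (projData 𝒮).glued

/-- Its structure morphism. -/
def projπ : proj 𝒮 ⟶ Y := (projData 𝒮).toBase

/-- The inclusion of a chart. -/
def projι (U : Y.AffineZariskiSite) : Proj (dg 𝒮 U) ⟶ proj 𝒮 := (projData 𝒮).cover.f U

instance (U : Y.AffineZariskiSite) : IsOpenImmersion (projι 𝒮 U) :=
  by delta projι; exact (projData 𝒮).cover.map_prop U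

theorem range_projι (U : Y.AffineZariskiSite) : (projι 𝒮 U).opensRange = projπ 𝒮 ⁻¹ᵁ U.1 := by
  refine ((projData 𝒮).toBase_preimage_eq_opensRange_ι U).symm.trans ?_
  show projπ 𝒮 ⁻¹ᵁ U.1.ι.opensRange = projπ 𝒮 ⁻¹ᵁ U.1
  rw [Scheme.Opens.opensRange_ι]

theorem map_projι {U V : Y.AffineZariskiSite} (h : V ≤ U) :
    Proj.map (rs 𝒮 h) (rs_irr 𝒮 h) ≫ projι 𝒮 U = projι 𝒮 V := by
  have hh : (V : Y.AffineZariskiSite) ⟶ U := homOfLE h
  exact Scheme.Cover.trans_map (𝒰 := (projData 𝒮).cover) (i := V) (j := U) hh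

/-- The charts of the relative Proj. -/
def projChart (U : Y.Opens) (hU : IsAffineOpen U) :
    ((projπ 𝒮 ⁻¹ᵁ U : (proj 𝒮).Opens) : Scheme.{u}) ≅ Proj (𝒮.deg U hU) :=
  IsOpenImmersion.isoOfRangeEq (projπ 𝒮 ⁻¹ᵁ U).ι (projι 𝒮 ⟨U, hU⟩)
    (by rw [Scheme.Opens.range_ι]; exact (congrArg SetLike.coe (range_projι 𝒮 ⟨U, hU⟩)).symm)

theorem projChart_hom_ι (U : Y.Opens) (hU : IsAffineOpen U) :
    (projChart 𝒮 U hU).hom ≫ projι 𝒮 ⟨U, hU⟩ = (projπ 𝒮 ⁻¹ᵁ U).ι :=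
  IsOpenImmersion.isoOfRangeEq_hom_fac _ _ _

theorem isRelProj_proj : RelProj.IsRelProj 𝒮 (projπ 𝒮) (projChart 𝒮) where
  chart_over U hU := by
    rw [← projChart_hom_ι 𝒮 U hU, Category.assoc]
    congr 1
    exact ((projData 𝒮).ι_toBase ⟨U, hU⟩).trans (projBase_ι 𝒮 ⟨U, hU⟩) |>.symm
  chart_res U hU r := by
    rw [← cancel_mono (projι 𝒮 ⟨U, hU⟩), Category.assoc, Category.assoc, projChart_hom_ι, Scheme.homOfLE_ι]
    refine ((congrArg (fun t => (projChart 𝒮 _ (hU.basicOpen r)).hom ≫ t) ?_).trans (projChart_hom_ι 𝒮 _ _)).symm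
    exact map_projι 𝒮 (Scheme.AffineZariskiSite.basicOpen_le (X := Y) ⟨U, hU⟩ r)

end GrothLib.RelProjK
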