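import Groth.Agent.Lib.RelProjK.ProjProps

/-!
# Properties of morphisms of relative Proj's
-/

set_option autoImplicit false
set_option backward.isDefEq.respectTransparency false

universe u

open CategoryTheory CategoryTheory.Limits AlgebraicGeometry TopologicalSpace Opposite HomogeneousLocalization
open scoped HomogeneousIdeal

noncomputable section

namespace GrothLib.RelProjK

section affine

variable {A B : Type u} [CommRing A] [CommRing B] {σ τ : Type u} [SetLike σ A] [AddSubgroupClass σ A]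
  [SetLike τ B] [AddSubgroupClass τ B] {𝒜 : ℕ → σ} {ℬ : ℕ → τ} [GradedRing 𝒜] [GradedRing ℬ]
  (ψ : 𝒜 →+*ᵍ ℬ) (hψ : ℬ₊ ≤ (𝒜₊).map ψ)

theorem property_map_of_away (Q : MorphismProperty Scheme.{u}) [IsZariskiLocalAtTarget Q]
    (h : ∀ (m : ℕ) (f : A), 0 < m → f ∈ 𝒜 m → Q (Spec.map (CommRingCat.ofHom (Away.map ψ f)))) :
    Q (Proj.map ψ hψ) := by
  rw [IsZariskiLocalAtTarget.iff_of_openCover (P := Q) (Proj.affineOpenCover 𝒜).openCover]
  intro s
  show Q (pullback.snd (Proj.map ψ hψ) (Proj.awayι 𝒜 (s.2 : A) s.2.2 s.1.2))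
  rw [← (isPullback_awayι_map ψ hψ s.1.2 s.2.2).isoPullback_inv_snd, Q.cancel_left_of_respectsIso]
  exact h s.1.1 s.2 s.1.2 s.2.2

theorem surjective_away_map {m : ℕ} {f : A} (hf : f ∈ 𝒜 m)
    (h : ∀ (n : ℕ), ∀ b ∈ ℬ n, ∃ (k : ℕ), ∃ a ∈ 𝒜 (k * m + n), ψ a = ψ f ^ k * b) :
    Function.Surjective (Away.map ψ f) := by
  intro z
  obtain ⟨n, b, hb, rfl⟩ := Away.mk_surjective ℬ (ψ.map_mem hf) z
  obtain ⟨k, a, ha, hka⟩ := h _ b hb
  refine ⟨Away.mk 𝒜 hf (k + n) a (by simpa [Nat.nsmul_eq_mul, add_mul] using ha), ?_⟩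
  rw [Away.map_mk]
  ext
  rw [Away.val_mk, Away.val_mk, Localization.mk_eq_mk_iff, Localization.r_iff_exists]
  exact ⟨1, by simp [hka]; ring⟩

theorem surjective_away_map_of_surjective (hs : Function.Surjective ψ) {m : ℕ} {f : A} (hf : f ∈ 𝒜 m) :
    Function.Surjective (Away.map ψ f) := by
  classical
  refine surjective_away_map ψ hf fun n b hb => ?_
  obtain ⟨a, rfl⟩ := hs b
  refine ⟨0, DirectSum.decompose 𝒜 a n, by rw [Nat.zero_mul, Nat.zero_add]; exact SetLike.coe_mem _, ?_⟩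
  rw [GradedRingHom.map_directSumDecompose, pow_zero, one_mul, DirectSum.decompose_of_mem_same _ hb]

theorem isClosedImmersion_map_of_surjective (hs : Function.Surjective ψ) : IsClosedImmersion (Proj.map ψ hψ) :=
  property_map_of_away ψ hψ @IsClosedImmersion fun _ f _ hf =>
    IsClosedImmersion.spec_of_surjective _ (surjective_away_map_of_surjective ψ hs hf)

theorem bijective_away_map (hpos : ∀ n : ℕ, 0 < n → Set.BijOn ψ (𝒜 n : Set A) (ℬ n : Set B))
    {m : ℕ} (hm : 0 < m) {f : A} (hf : f ∈ 𝒜 m) : Function.Bijective (Away.map ψ f) := by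
  refine ⟨?_, surjective_away_map ψ hf fun n b hb => ?_⟩
  · intro p q hpq
    obtain ⟨n, a, ha, rfl⟩ := Away.mk_surjective 𝒜 hf p
    obtain ⟨n', a', ha', rfl⟩ := Away.mk_surjective 𝒜 hf q
    have hpq' := congrArg HomogeneousLocalization.val hpq
    rw [Away.map_mk, Away.map_mk,
      Away.val_mk, Away.val_mk, Localization.mk_eq_mk_iff, Localization.r_iff_exists] at hpq'
    obtain ⟨⟨_, l, rfl⟩, hl⟩ := hpq'
    have e1 : f ^ (l + 1) * (f ^ n' * a) ∈ 𝒜 ((l + 1) * m + (n' * m + n * m)) := by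
      refine SetLike.mul_mem_graded (by simpa using SetLike.pow_mem_graded (l + 1) hf) ?_
      exact SetLike.mul_mem_graded (by simpa using SetLike.pow_mem_graded n' hf) (by simpa using ha)
    have e2 : f ^ (l + 1) * (f ^ n * a') ∈ 𝒜 ((l + 1) * m + (n' * m + n * m)) := by
      refine SetLike.mul_mem_graded (by simpa using SetLike.pow_mem_graded (l + 1) hf) ?_
      rw [add_comm]
      exact SetLike.mul_mem_graded (by simpa using SetLike.pow_mem_graded n hf) (by simpa using ha')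
    have hl' : ψ f ^ l * (ψ f ^ n' * ψ a) = ψ f ^ l * (ψ f ^ n * ψ a') := hl
    have key := (hpos _ (Nat.lt_of_lt_of_le (Nat.mul_pos l.succ_pos hm) (Nat.le_add_right _ _))).injOn e1 e2 (by
      simp only [map_mul, map_pow, pow_succ']
      rw [mul_assoc, hl', mul_assoc])
    ext
    rw [Away.val_mk, Away.val_mk, Localization.mk_eq_mk_iff, Localization.r_iff_exists]
    exact ⟨⟨f ^ (l + 1), l + 1, rfl⟩, key⟩
  · obtain ⟨a, ha, hab⟩ := (hpos (1 * m + n) (by omega)).surjOn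
      (show ψ f ^ 1 * b ∈ ℬ (1 * m + n) from SetLike.mul_mem_graded (by simpa using ψ.map_mem hf) hb)
    exact ⟨1, a, ha, hab⟩

theorem isIso_map_of_bijOn (hpos : ∀ n : ℕ, 0 < n → Set.BijOn ψ (𝒜 n : Set A) (ℬ n : Set B)) :
    IsIso (Proj.map ψ hψ) :=
  property_map_of_away ψ hψ (MorphismProperty.isomorphisms Scheme.{u}) fun m f hm hf => by
    haveI : IsIso (CommRingCat.ofHom (Away.map ψ f)) :=
      (ConcreteCategory.isIso_iff_bijective _).mpr (bijective_away_map ψ hpos hm hf)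
    exact (inferInstance : IsIso (Spec.map (CommRingCat.ofHom (Away.map ψ f))))

end affine

variable {Y PA PB : Scheme.{u}} {𝒜 ℬ : RelProj.QCGrAlg Y} {φ : 𝒜.toQCAlg ⟶ ℬ.toQCAlg} {hφ : RelProj.IsGradedHom φ}
  {hirr : ∀ (U : Y.Opens) (hU : IsAffineOpen U),
    (ℬ.deg U hU)₊ ≤ ((𝒜.deg U hU)₊).map (RelProj.gradedHomAt φ hφ U hU)}
  {pA : PA ⟶ Y} {pB : PB ⟶ Y}
  {chartA : ∀ (U : Y.Opens) (hU : IsAffineOpen U), (((pA ⁻¹ᵁ U : PA.Opens) : Scheme.{u}) ≅ Proj (𝒜.deg U hU))}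
  {chartB : ∀ (U : Y.Opens) (hU : IsAffineOpen U), (((pB ⁻¹ᵁ U : PB.Opens) : Scheme.{u}) ≅ Proj (ℬ.deg U hU))}

theorem relProjMap_comp (hA : RelProj.IsRelProj 𝒜 pA chartA) (hB : RelProj.IsRelProj ℬ pB chartB) {h : PB ⟶ PA}
    (hh : RelProj.IsRelProjMap φ hφ hirr chartA chartB h) : h ≫ pA = pB := by
  refine hom_ext_affine pB fun U hU => ?_
  rw [reassoc_of% (hh U hU), ← hA.chart_over U hU, Iso.inv_hom_id_assoc,
    reassoc_of% (map_toSpecZero (RelProj.gradedHomAt φ hφ U hU) (hirr U hU)), ← Spec.map_comp_assoc,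
    ← hB.chart_over U hU]
  congr 4
  refine CommRingCat.hom_ext (RingHom.ext fun a => Subtype.ext ?_)
  show (φ.hom.app (op U)).hom ((𝒜.str.app (op U)).hom a) = (ℬ.str.app (op U)).hom a
  rw [← φ.comm]
  rfl

theorem property_relProjMap (Q : MorphismProperty Scheme.{u}) [IsZariskiLocalAtTarget Q]
    (hA : RelProj.IsRelProj 𝒜 pA chartA) (hB : RelProj.IsRelProj ℬ pB chartB) {h : PB ⟶ PA}
    (hh : RelProj.IsRelProjMap φ hφ hirr chartA chartB h)
    (hQ : ∀ (U : Y.Opens) (hU : IsAffineOpen U), Q (Proj.map (RelProj.gradedHomAt φ hφ U hU) (hirr U hU))) : Q h := by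
  rw [IsZariskiLocalAtTarget.iff_of_iSup_eq_top (P := Q) (fun U : Y.affineOpens => pA ⁻¹ᵁ U.1)
    (IsOpenCover.comap (iSup_affineOpens_eq_top Y) pA.base.hom)]
  intro U
  have he : h ⁻¹ᵁ (pA ⁻¹ᵁ U.1) = pB ⁻¹ᵁ U.1 := by rw [← Scheme.Hom.comp_preimage, relProjMap_comp hA hB hh]
  have e : h ∣_ (pA ⁻¹ᵁ U.1) = (PB.isoOfEq he).hom ≫ (chartB U.1 U.2).hom ≫
      Proj.map (RelProj.gradedHomAt φ hφ U.1 U.2) (hirr U.1 U.2) ≫ (chartA U.1 U.2).inv := by
    rw [← cancel_mono (pA ⁻¹ᵁ U.1).ι, morphismRestrict_ι]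
    simp only [Category.assoc]
    rw [← hh U.1 U.2, Scheme.isoOfEq_hom_ι_assoc]
  rw [e, Q.cancel_left_of_respectsIso, Q.cancel_left_of_respectsIso, Q.cancel_right_of_respectsIso]
  exact hQ U.1 U.2

end GrothLib.RelProjK
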