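import Groth.Agent.Lib.RelProjK.Comap

/-!
# Existence and gluing of the twisting sheaves of a relative Proj
-/

set_option autoImplicit false
set_option backward.isDefEq.respectTransparency false

universe u

open CategoryTheory AlgebraicGeometry TopologicalSpace Opposite
open scoped HomogeneousIdeal

noncomputable section

namespace GrothLib.RelProjK

variable {P : Scheme.{u}}

/-- Restriction of sections. -/
abbrev tr (M : P.Modules) {W W' : P.Opens} (h : W' ≤ W) : Γ(M, W) →+ Γ(M, W') :=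
  (M.presheaf.map (homOfLE h).op).hom

theorem app_tr {M N : P.Modules} (f : M ⟶ N) {W W' : P.Opens} (h : W' ≤ W) (x : Γ(M, W)) :
    f.app W' (tr M h x) = tr N h (f.app W x) :=
  ConcreteCategory.congr_hom (f.mapPresheaf.naturality (homOfLE h).op) x

theorem tr_tr (M : P.Modules) {W W' W'' : P.Opens} (h : W' ≤ W) (h' : W'' ≤ W') (x : Γ(M, W)) :
    tr M h' (tr M h x) = tr M (h'.trans h) x := by
  show (M.presheaf.map (homOfLE h').op).hom ((M.presheaf.map (homOfLE h).op).hom x) = _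
  rw [← ConcreteCategory.comp_apply, ← M.presheaf.map_comp]
  rfl

theorem mr_smul' (M : P.Modules) {W W' : (P.Opens)ᵒᵖ} (i : W ⟶ W') (r : Γ(P, W.unop)) (x : Γ(M, W.unop)) :
    M.presheaf.map i (r • x) =
      (show Γ(P, W'.unop) from (P.presheaf.map i).hom r) • (show Γ(M, W'.unop) from M.presheaf.map i x) :=
  Scheme.Modules.map_smul M i.unop r x

section family

variable {A : Type u} [Preorder A] (M : A → P.Modules) (c : ∀ {U V : A}, V ≤ U → (M U ⟶ M V))

/-- A family of sections, compatible with the comparison maps. -/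
def IsFam {W : P.Opens} (t : ∀ U : A, Γ(M U, W)) : Prop :=
  ∀ (U V : A) (h : V ≤ U), (c h).app W (t U) = t V

/-- Families of sections. -/
def famSub (W : P.Opens) : Submodule Γ(P, W) (∀ U : A, Γ(M U, W)) where
  carrier := {t | IsFam M c t}
  zero_mem' _ _ _ := map_zero _
  add_mem' {s t} hs ht U V h := by
    show (c h).app W (s U + t U) = s V + t V
    rw [map_add, hs U V h, ht U V h]
  smul_mem' r t ht U V h := by
    show (c h).app W (r • t U) = r • t V
    rw [Scheme.Modules.Hom.app_smul, ht U V h]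

/-- Restriction of families. -/
def famRes {W W' : (P.Opens)ᵒᵖ} (i : W ⟶ W') : famSub M c W.unop →+ famSub M c W'.unop where
  toFun t := ⟨fun U => (M U).presheaf.map i (t.1 U), fun U V h =>
    (app_tr (c h) (leOfHom i.unop) (t.1 U)).trans (congrArg (tr (M V) (leOfHom i.unop)) (t.2 U V h))⟩
  map_zero' := Subtype.ext (funext fun _ => map_zero _)
  map_add' s t := Subtype.ext (funext fun _ => map_add _ _ _)

/-- The presheaf of families. -/
def famPre : TopCat.Presheaf AddCommGrpCat.{u} P.carrier where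
  obj W := AddCommGrpCat.of (famSub M c W.unop)
  map i := AddCommGrpCat.ofHom (famRes M c i)
  map_id W := ConcreteCategory.hom_ext _ _ fun t => Subtype.ext (funext fun U => by
    show (M U).presheaf.map (𝟙 W) (t.1 U) = t.1 U
    rw [(M U).presheaf.map_id]; rfl)
  map_comp {W W' W''} i j := ConcreteCategory.hom_ext _ _ fun t => Subtype.ext (funext fun U => by
    show (M U).presheaf.map (i ≫ j) (t.1 U) = (M U).presheaf.map j ((M U).presheaf.map i (t.1 U))
    rw [(M U).presheaf.map_comp]; rfl)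

theorem famPre_isSheaf : (famPre M c).IsSheaf := by
  refine (TopCat.Presheaf.isSheaf_iff_isSheafUniqueGluing _).mpr fun ι W sf hsf => ?_
  have hu : ∀ U, ∃! s : Γ(M U, iSup W), ∀ i, (M U).presheaf.map (Opens.leSupr W i).op s = (sf i).1 U := fun U =>
    TopCat.Sheaf.existsUnique_gluing (⟨(M U).presheaf, (M U).isSheaf⟩ :
      TopCat.Sheaf AddCommGrpCat.{u} P.carrier) W (fun i => (sf i).1 U) fun i j =>
        congrArg (fun x => x.1 U) (hsf i j)
  choose s hs hsu using hu
  refine ⟨⟨s, fun U V h => ?_⟩, fun i => Subtype.ext (funext fun U => hs U i), fun t ht => ?_⟩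
  · refine TopCat.Sheaf.eq_of_locally_eq (⟨(M V).presheaf, (M V).isSheaf⟩ :
      TopCat.Sheaf AddCommGrpCat.{u} P.carrier) W _ _ fun i => ?_
    refine (app_tr (c h) (le_iSup W i) (s U)).symm.trans ?_
    exact ((congrArg _ (hs U i)).trans ((sf i).2 U V h)).trans (hs V i).symm
  · exact Subtype.ext (funext fun U => hsu U _ fun i => congrArg (fun x => x.1 U) (ht i))

theorem famRes_smul {W W' : (P.Opens)ᵒᵖ} (i : W ⟶ W') (r : Γ(P, W.unop)) (t : famSub M c W.unop) :
    famRes M c i (r • t) = (show Γ(P, W'.unop) from (P.presheaf.map i).hom r) • famRes M c i t :=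
  Subtype.ext (funext fun U => mr_smul' (M U) i r (t.1 U))

/-- The module of compatible families. -/
def famMod : P.Modules where
  val :=
    letI (W : (P.Opens)ᵒᵖ) : Module ↑(P.ringCatSheaf.obj.obj W) ↑((famPre M c).obj W) :=
      inferInstanceAs (Module Γ(P, W.unop) (famSub M c W.unop))
    PresheafOfModules.ofPresheaf (famPre M c) fun W W' i r t => famRes_smul M c i r t
  isSheaf := famPre_isSheaf M c

/-- A member of a family. -/
def famProj (U : A) : famMod M c ⟶ M U :=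
  ⟨PresheafOfModules.homMk
    { app := fun W => AddCommGrpCat.ofHom
        { toFun := fun t : famSub M c W.unop => t.1 U, map_zero' := rfl, map_add' := fun _ _ => rfl }
      naturality := fun _ _ _ => rfl }
    fun _ _ _ => rfl⟩

theorem famProj_app (U : A) {W : P.Opens} (t : Γ(famMod M c, W)) :
    (famProj M c U).app W t = (show famSub M c W from t).1 U := rfl

variable {M c} in
/-- The map to families given by a compatible system of maps. -/
def famLift {L : P.Modules} (l : ∀ U, L ⟶ M U) (hl : ∀ (W : P.Opens) (s : Γ(L, W)), IsFam M c fun U => (l U).app W s) :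
    L ⟶ famMod M c :=
  ⟨PresheafOfModules.homMk
    { app := fun W => AddCommGrpCat.ofHom
        { toFun := fun s => (⟨_, hl W.unop s⟩ : famSub M c W.unop)
          map_zero' := Subtype.ext (funext fun U => map_zero _)
          map_add' := fun _ _ => Subtype.ext (funext fun U => map_add _ _ _) }
      naturality := fun W W' i => ConcreteCategory.hom_ext _ _ fun s => Subtype.ext (funext fun U =>
        app_tr (l U) (leOfHom i.unop) s) }
    fun W r s => Subtype.ext (funext fun U => Scheme.Modules.Hom.app_smul (l U) r s)⟩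

variable {M c} in
theorem famLift_proj {L : P.Modules} (l : ∀ U, L ⟶ M U)
    (hl : ∀ (W : P.Opens) (s : Γ(L, W)), IsFam M c fun U => (l U).app W s) (U : A) :
    famLift l hl ≫ famProj M c U = l U :=
  Scheme.Modules.hom_ext _ _ fun _ => rfl

end family

variable {S : Scheme.{u}} {𝒮 : RelProj.QCGrAlg S} {p : P ⟶ S}
  {chart : ∀ (U : S.Opens) (hU : IsAffineOpen U), (((p ⁻¹ᵁ U : P.Opens) : Scheme.{u}) ≅ Proj (𝒮.deg U hU))}
  (hP : RelProj.IsRelProj 𝒮 p chart) (n : ℤ)

/-- Equality of sections on a chart can be tested on basic sub-charts. -/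
theorem ext_cm {U : S.AffineZariskiSite} {W : P.Opens} {t t' : Γ(Tw p chart n U, W)}
    (h : ∀ x ∈ W, p x ∈ U.1 → ∃ (D : S.AffineZariskiSite) (hD : D ≤ U), p x ∈ D.1 ∧
      (cm hP n hD).app W t = (cm hP n hD).app W t') : t = t' := by
  refine vl_ext fun y hy => ?_
  obtain ⟨D, hD, hxD, he⟩ := h _ hy ((mem_opensRange_em U).mp ⟨y, rfl⟩)
  obtain ⟨y', hy'⟩ := (mem_opensRange_em (chart := chart) D).mpr hxD
  have e : ProjectiveSpectrum.comap (rs 𝒮 hD) (rs_irr 𝒮 hD) y' = y :=
    (em p chart U).isOpenEmbedding.injective ((em_comap hP hD y').trans hy')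
  subst e
  have h1 := congrArg (fun v => vl v y' (hy'.symm ▸ hy)) he
  obtain ⟨c, hc, hloc⟩ := rs_away 𝒮 hD
  exact (bijective_locMap (rs 𝒮 hD) (rs_irr 𝒮 hD) c hloc y').1 h1

theorem ext_inf {U : S.AffineZariskiSite} {W : P.Opens} {t t' : Γ(Tw p chart n U, W)}
    (h : tr _ (inf_le_left : W ⊓ p ⁻¹ᵁ U.1 ≤ W) t = tr _ (inf_le_left : W ⊓ p ⁻¹ᵁ U.1 ≤ W) t') : t = t' :=
  vl_ext fun y hy => congrArg (fun v => vl v y (show em p chart U y ∈ W ⊓ p ⁻¹ᵁ U.1 from
    ⟨hy, (mem_opensRange_em U).mp ⟨y, rfl⟩⟩)) h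

/-- The twisting sheaf of a relative Proj. -/
def relTwist : P.Modules := famMod (Tw p chart n) (cm hP n)

/-- The projection to a chart. -/
def relProjection (U : S.AffineZariskiSite) : relTwist hP n ⟶ Tw p chart n U :=
  famProj (Tw p chart n) (cm hP n) U

theorem relProjection_app (U : S.AffineZariskiSite) {W : P.Opens} (t : Γ(relTwist hP n, W)) :
    (relProjection hP n U).app W t = (show famSub (Tw p chart n) (cm hP n) W from t).1 U := rfl

/-- Compatible data on small sub-charts of a chart glue to a section on the chart. -/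
theorem exists_lift {U : S.AffineZariskiSite} {W : P.Opens} (Q : S.AffineZariskiSite → Prop)
    (hQ : ∀ D E, E ≤ D → Q D → Q E) (hcov : ∀ x ∈ W, p x ∈ U.1 → ∃ D, D ≤ U ∧ Q D ∧ p x ∈ D.1)
    (t : ∀ D, Q D → Γ(Tw p chart n D, W))
    (ht : ∀ D E (h : E ≤ D) (hD : Q D), (cm hP n h).app W (t D hD) = t E (hQ D E h hD)) :
    ∃ s : Γ(Tw p chart n U, W), ∀ D (h : D ≤ U) (hD : Q D), (cm hP n h).app W s = t D hD := by
  let ι := {D : S.AffineZariskiSite // D ≤ U ∧ Q D}
  choose s hs using fun D : ι => (bijective_cm hP (n := n) D.2.1 (inf_le_right : W ⊓ p ⁻¹ᵁ D.1.1 ≤ p ⁻¹ᵁ D.1.1)).2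
    (tr _ inf_le_left (t D.1 D.2.2))
  have hcompat : ∀ (D D' : ι) (O : P.Opens) (h1 : O ≤ W ⊓ p ⁻¹ᵁ D.1.1) (h2 : O ≤ W ⊓ p ⁻¹ᵁ D'.1.1),
      tr _ h1 (s D) = tr _ h2 (s D') := by
    intro D D' O h1 h2
    refine ext_cm hP n fun x hx hxU => ?_
    obtain ⟨g, g', hgg, hxg⟩ := exists_basicOpen_le_affine_inter D.1.2 D'.1.2 (p x) ⟨(h1 hx).2, (h2 hx).2⟩
    let E : S.AffineZariskiSite := D.1.basicOpen g
    have hED : E ≤ D.1 := ⟨g, rfl⟩
    have hED' : E ≤ D'.1 := ⟨g', hgg.symm⟩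
    refine ⟨E, hED.trans D.2.1, hxg, ?_⟩
    rw [← cm_comp hP D.2.1 hED]
    conv_rhs => rw [← cm_comp hP D'.2.1 hED']
    rw [app_tr, app_tr, hs D, app_tr (cm hP n D'.2.1), app_tr (cm hP n hED'), hs D']
    rw [app_tr, app_tr, ht, ht, tr_tr, tr_tr]
  obtain ⟨sU, hsU, -⟩ := TopCat.Sheaf.existsUnique_gluing'
    (⟨(Tw p chart n U).presheaf, (Tw p chart n U).isSheaf⟩ : TopCat.Sheaf AddCommGrpCat.{u} P.carrier)
    (fun D : ι => W ⊓ p ⁻¹ᵁ D.1.1) (W ⊓ p ⁻¹ᵁ U.1)
    (fun D => homOfLE (inf_le_inf_left _ (p.preimage_mono (Scheme.AffineZariskiSite.toOpens_mono D.2.1))))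
    (fun x hx => by
      obtain ⟨D, hDU, hD, hxD⟩ := hcov x hx.1 hx.2
      exact Opens.mem_iSup.mpr ⟨⟨D, hDU, hD⟩, hx.1, hxD⟩)
    s (fun D D' => hcompat D D' _ _ _)
  have hWU : em p chart U ⁻¹ᵁ W = em p chart U ⁻¹ᵁ (W ⊓ p ⁻¹ᵁ U.1) := by
    ext y
    exact ⟨fun h => ⟨h, (mem_opensRange_em U).mp ⟨y, rfl⟩⟩, fun h => h.1⟩
  let sW : Γ(Tw p chart n U, W) := (GrTwist.twist (dg 𝒮 U) n).presheaf.map (eqToHom hWU).op sU
  refine ⟨sW, fun D h hD => ext_inf n ?_⟩
  have hle : W ⊓ p ⁻¹ᵁ D.1 ≤ W ⊓ p ⁻¹ᵁ U.1 :=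
    inf_le_inf_left _ (p.preimage_mono (Scheme.AffineZariskiSite.toOpens_mono h))
  have e1 : tr _ (inf_le_left : W ⊓ p ⁻¹ᵁ D.1 ≤ W) sW = tr _ hle sU := rfl
  rw [← app_tr, e1, show tr _ hle sU = s ⟨D, h, hD⟩ from hsU ⟨D, h, hD⟩, hs ⟨D, h, hD⟩]

/-- A family is determined by, and can be given by, its member on a chart containing the open. -/
theorem bijective_relProjection (U₀ : S.AffineZariskiSite) {W : P.Opens} (hW : W ≤ p ⁻¹ᵁ U₀.1) :
    Function.Bijective ((relProjection hP n U₀).app W) := by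
  have hcov : ∀ (U : S.AffineZariskiSite) (x : P), x ∈ W → p x ∈ U.1 →
      ∃ D : S.AffineZariskiSite, D ≤ U ∧ D ≤ U₀ ∧ p x ∈ D.1 := by
    intro U x hx hxU
    obtain ⟨g, g', hgg, hxg⟩ := exists_basicOpen_le_affine_inter U.2 U₀.2 (p x) ⟨hxU, hW hx⟩
    exact ⟨U.basicOpen g, ⟨g, rfl⟩, ⟨g', hgg.symm⟩, hxg⟩
  constructor
  · intro s t hst
    rw [relProjection_app, relProjection_app] at hst
    refine Subtype.ext (funext fun U => ext_cm hP n fun x hx hxU => ?_)
    obtain ⟨D, hDU, hD0, hxD⟩ := hcov U x hx hxU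
    exact ⟨D, hDU, hxD, ((show famSub (Tw p chart n) (cm hP n) W from s).2 U D hDU).trans
      ((((show famSub (Tw p chart n) (cm hP n) W from s).2 U₀ D hD0).symm.trans (congrArg ((cm hP n hD0).app W) hst)).trans
        (((show famSub (Tw p chart n) (cm hP n) W from t).2 U₀ D hD0).trans ((show famSub (Tw p chart n) (cm hP n) W from t).2 U D hDU).symm))⟩
  · intro t₀
    choose s hs using fun U : S.AffineZariskiSite => exists_lift hP n (U := U) (W := W) (· ≤ U₀)
      (fun D E h h' => h.trans h') (fun x hx hxU => hcov U x hx hxU)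
      (fun D hD => (cm hP n hD).app W t₀) (fun D E h hD => cm_comp hP hD h t₀)
    refine ⟨⟨s, fun U V h => ext_cm hP n fun x hx hxV => ?_⟩, ?_⟩
    · obtain ⟨D, hDV, hD0, hxD⟩ := hcov V x hx hxV
      refine ⟨D, hDV, hxD, ?_⟩
      rw [cm_comp, hs U D (hDV.trans h) hD0, hs V D hDV hD0]
    · rw [relProjection_app]
      refine ext_cm hP n fun x hx hxU => ?_
      exact ⟨U₀, le_rfl, hxU, hs U₀ U₀ le_rfl le_rfl⟩

theorem relTwist_compat (U V : S.AffineZariskiSite) (h : V ≤ U) {W : P.Opens} (s : Γ(relTwist hP n, W))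
    (y : ProjectiveSpectrum (dg 𝒮 V)) (hy : em p chart V y ∈ W) :
    vl ((relProjection hP n V).app W s) y hy =
      GrTwist.locMap (rs 𝒮 h) (rs_irr 𝒮 h) y
        (vl ((relProjection hP n U).app W s) (ProjectiveSpectrum.comap (rs 𝒮 h) (rs_irr 𝒮 h) y)
          ((em_comap hP h y).symm ▸ hy)) := by
  rw [relProjection_app, relProjection_app, ← (show famSub (Tw p chart n) (cm hP n) W from s).2 U V h, vl_cm]

include hP in
set_option maxHeartbeats 1000000 in
theorem exists_isRelTwist :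
    ∃ (L : P.Modules) (lam : ∀ (U : S.Opens) (hU : IsAffineOpen U),
      L ⟶ (Scheme.Modules.pushforward (RelProj.emb p chart U hU)).obj (GrTwist.twist (𝒮.deg U hU) n)),
      RelProj.IsRelTwist 𝒮 p chart n L lam := by
  exact ⟨relTwist hP n, fun U hU => relProjection hP n ⟨U, hU⟩, fun U hU W hW =>
    bijective_relProjection hP n ⟨U, hU⟩ hW, fun U hU r W s y hy hy' =>
      relTwist_compat hP n ⟨U, hU⟩ (Scheme.AffineZariskiSite.basicOpen ⟨U, hU⟩ r) ⟨r, rfl⟩ s y hy⟩

/-- Compatibility of a twisting sheaf with the comparison maps. -/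
theorem isFam_of_isRelTwist {L : P.Modules}
    {lam : ∀ (U : S.Opens) (hU : IsAffineOpen U),
      L ⟶ (Scheme.Modules.pushforward (RelProj.emb p chart U hU)).obj (GrTwist.twist (𝒮.deg U hU) n)}
    (hL : RelProj.IsRelTwist 𝒮 p chart n L lam) {W : P.Opens} (s : Γ(L, W)) :
    IsFam (Tw p chart n) (cm hP n) fun U : S.AffineZariskiSite => (show Γ(Tw p chart n U, W) from (lam U.1 U.2).app W s) := by
  intro U V h
  obtain ⟨V, hV⟩ := V
  obtain ⟨r, hr⟩ := id h
  obtain rfl : S.basicOpen r = V := hr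
  refine vl_ext fun y hy => ?_
  rw [vl_cm]
  exact (hL.compat U.1 U.2 r W s y hy _).symm

theorem isIso_of_bijective_local {L M : P.Modules} (f : L ⟶ M)
    (h : ∀ (U : S.AffineZariskiSite) (W : P.Opens), W ≤ p ⁻¹ᵁ U.1 → Function.Bijective (f.app W)) : IsIso f := by
  refine Scheme.Modules.Hom.isIso_iff_isIso_app.mpr fun W => (ConcreteCategory.isIso_iff_bijective _).mpr ?_
  have hcov : W ≤ ⨆ U : S.AffineZariskiSite, W ⊓ p ⁻¹ᵁ U.1 := fun x hx => by
    obtain ⟨U, hU, hxU, -⟩ := exists_isAffineOpen_mem_and_subset (Opens.mem_top (p x))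
    exact Opens.mem_iSup.mpr ⟨⟨U, hU⟩, hx, hxU⟩
  constructor
  · intro a b hab
    refine TopCat.Sheaf.eq_of_locally_eq' (⟨L.presheaf, L.isSheaf⟩ : TopCat.Sheaf AddCommGrpCat.{u} P.carrier)
      (fun U : S.AffineZariskiSite => W ⊓ p ⁻¹ᵁ U.1) W (fun U => homOfLE inf_le_left) hcov a b fun U => ?_
    refine (h U _ inf_le_right).1 ?_
    show f.app _ (tr L inf_le_left a) = f.app _ (tr L inf_le_left b)
    rw [app_tr, app_tr, hab]
  · intro m
    choose s hs using fun U : S.AffineZariskiSite =>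
      (h U (W ⊓ p ⁻¹ᵁ U.1) inf_le_right).2 (tr M inf_le_left m)
    obtain ⟨a, ha, -⟩ := TopCat.Sheaf.existsUnique_gluing' (⟨L.presheaf, L.isSheaf⟩ : TopCat.Sheaf AddCommGrpCat.{u} P.carrier)
      (fun U : S.AffineZariskiSite => W ⊓ p ⁻¹ᵁ U.1) W (fun U => homOfLE inf_le_left) hcov s (fun U U' => by
        refine (h U _ (inf_le_left.trans inf_le_right)).1 ?_
        show f.app _ (tr L (inf_le_left : (W ⊓ p ⁻¹ᵁ U.1) ⊓ (W ⊓ p ⁻¹ᵁ U'.1) ≤ _) (s U)) =
          f.app _ (tr L (inf_le_right : (W ⊓ p ⁻¹ᵁ U.1) ⊓ (W ⊓ p ⁻¹ᵁ U'.1) ≤ _) (s U'))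
        rw [app_tr, app_tr, hs, hs, tr_tr, tr_tr])
    refine ⟨a, TopCat.Sheaf.eq_of_locally_eq' (⟨M.presheaf, M.isSheaf⟩ : TopCat.Sheaf AddCommGrpCat.{u} P.carrier)
      (fun U : S.AffineZariskiSite => W ⊓ p ⁻¹ᵁ U.1) W (fun U => homOfLE inf_le_left) hcov _ _ fun U => ?_⟩
    show tr M inf_le_left (f.app W a) = tr M inf_le_left m
    rw [← app_tr, show tr L inf_le_left a = s U from ha U, hs]

section unique

variable {L : P.Modules}
  {lam : ∀ (U : S.Opens) (hU : IsAffineOpen U),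
    L ⟶ (Scheme.Modules.pushforward (RelProj.emb p chart U hU)).obj (GrTwist.twist (𝒮.deg U hU) n)}
  (hL : RelProj.IsRelTwist 𝒮 p chart n L lam)

/-- The comparison with the standard twisting sheaf. -/
def toRelTwist : L ⟶ relTwist hP n :=
  famLift (fun U : S.AffineZariskiSite => lam U.1 U.2) fun _ s => isFam_of_isRelTwist hP n hL s

theorem toRelTwist_comp (U : S.Opens) (hU : IsAffineOpen U) :
    toRelTwist hP n hL ≫ relProjection hP n ⟨U, hU⟩ = lam U hU :=
  famLift_proj (fun U : S.AffineZariskiSite => lam U.1 U.2) _ _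

theorem isIso_toRelTwist : IsIso (toRelTwist hP n hL) :=
  isIso_of_bijective_local (p := p) _ fun U W hW => by
    refine ((bijective_relProjection hP n U hW).of_comp_iff' _).mp ?_
    exact hL.bijective U.1 U.2 W hW

include hP hL in
/-- Sections of a twisting sheaf are the compatible families of sections on the charts. -/
theorem existsUnique_section {W : P.Opens}
    (t : ∀ U : S.AffineZariskiSite, Γ(Tw p chart n U, W)) (ht : IsFam (Tw p chart n) (cm hP n) t) :
    ∃! s : Γ(L, W), ∀ U : S.AffineZariskiSite, (lam U.1 U.2).app W s = t U := by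
  haveI := isIso_toRelTwist hP n hL
  have hb : Function.Bijective ((toRelTwist hP n hL).app W) :=
    ConcreteCategory.bijective_of_isIso ((Scheme.Modules.toPresheaf _).map (toRelTwist hP n hL) |>.app (op W))
  obtain ⟨s, hs⟩ := hb.2 (⟨t, ht⟩ : famSub (Tw p chart n) (cm hP n) W)
  refine ⟨s, fun U => congrArg (fun v : famSub (Tw p chart n) (cm hP n) W => v.1 U) hs, fun s' hs' => hb.1 ?_⟩
  exact (Subtype.ext (funext hs') : (⟨_, isFam_of_isRelTwist hP n hL s'⟩ : famSub (Tw p chart n) (cm hP n) W) = ⟨t, ht⟩).trans hs.symm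

end unique

end GrothLib.RelProjK
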