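import Groth.Prelude.Def_GrTwist
import Groth.Prelude.Def_Twist2

/-!
# Gradings by additive subgroups as gradings by submodules over the degree zero part
-/

set_option autoImplicit false
set_option backward.isDefEq.respectTransparency false

universe u

open CategoryTheory AlgebraicGeometry TopologicalSpace Opposite
open scoped HomogeneousIdeal

noncomputable section

namespace GrothLib.RelProjK

variable {A : Type u} [CommRing A] (𝒜 : ℕ → AddSubgroup A)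

variable [GradedRing 𝒜]

/-- The same grading, by submodules over the degree zero part. -/
def zg (n : ℕ) : Submodule (𝒜 0) A where
  toAddSubmonoid := (𝒜 n).toAddSubmonoid
  smul_mem' := fun c x hx => by
    show (c : A) * x ∈ 𝒜 n
    simpa using SetLike.mul_mem_graded c.2 hx

theorem mem_zg {n : ℕ} {x : A} : x ∈ zg 𝒜 n ↔ x ∈ 𝒜 n := Iff.rfl

instance gradedAlgebraZg : GradedAlgebra (zg 𝒜) where
  one_mem := SetLike.GradedOne.one_mem (A := 𝒜)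
  mul_mem := fun _ _ _ _ hi hj => SetLike.GradedMul.mul_mem (A := 𝒜) hi hj
  decompose' := (show DirectSum.Decomposition 𝒜 from inferInstance).decompose'
  left_inv := (show DirectSum.Decomposition 𝒜 from inferInstance).left_inv
  right_inv := (show DirectSum.Decomposition 𝒜 from inferInstance).right_inv

/-- The identity, towards the submodule grading. -/
def toZ : 𝒜 →+*ᵍ zg 𝒜 := { RingHom.id A with map_mem := fun hx => hx }

/-- The identity, from the submodule grading. -/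
def ofZ : zg 𝒜 →+*ᵍ 𝒜 := { RingHom.id A with map_mem := fun hx => hx }

theorem toZ_irr : (zg 𝒜)₊ ≤ (𝒜₊).map (toZ 𝒜) := by
  rw [HomogeneousIdeal.irrelevant_le]
  intro i hi x hx
  exact Ideal.mem_map_of_mem (toZ 𝒜) (HomogeneousIdeal.mem_irrelevant_of_mem 𝒜 hi (show x ∈ 𝒜 i from hx))

theorem ofZ_irr : 𝒜₊ ≤ ((zg 𝒜)₊).map (ofZ 𝒜) := by
  rw [HomogeneousIdeal.irrelevant_le]
  intro i hi x hx
  exact Ideal.mem_map_of_mem (ofZ 𝒜) (HomogeneousIdeal.mem_irrelevant_of_mem (zg 𝒜) hi (show x ∈ zg 𝒜 i from hx))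

theorem map_toZ_ofZ : Proj.map (ofZ 𝒜) (ofZ_irr 𝒜) ≫ Proj.map (toZ 𝒜) (toZ_irr 𝒜) = 𝟙 (Proj 𝒜) := by
  rw [← Proj.map_comp]
  exact (Proj.map_id (𝒜 := 𝒜))

theorem map_ofZ_toZ : Proj.map (toZ 𝒜) (toZ_irr 𝒜) ≫ Proj.map (ofZ 𝒜) (ofZ_irr 𝒜) = 𝟙 (Proj (zg 𝒜)) := by
  rw [← Proj.map_comp]
  exact (Proj.map_id (𝒜 := zg 𝒜))

/-- The two gradings have the same homogeneous spectrum. -/
def projIso : Proj (zg 𝒜) ≅ Proj 𝒜 :=
  ⟨Proj.map (toZ 𝒜) (toZ_irr 𝒜), Proj.map (ofZ 𝒜) (ofZ_irr 𝒜), map_ofZ_toZ 𝒜, map_toZ_ofZ 𝒜⟩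

theorem projIso_preimage_basicOpen (s : A) :
    (projIso 𝒜).hom ⁻¹ᵁ Proj.basicOpen 𝒜 s = Proj.basicOpen (zg 𝒜) s :=
  Proj.map_preimage_basicOpen _ _ s

theorem twist_eq (n : ℤ) : GrTwist.twist (zg 𝒜) n = Twist.twist (zg 𝒜) n := rfl

theorem locMap_locMap {B τ C υ : Type u} [CommRing B] [SetLike τ B] [AddSubgroupClass τ B] {ℬ : ℕ → τ} [GradedRing ℬ]
    (ψ : 𝒜 →+*ᵍ ℬ) (hψ : ℬ₊ ≤ (𝒜₊).map ψ) [CommRing C] [SetLike υ C] [AddSubgroupClass υ C] {𝒞 : ℕ → υ}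
    [GradedRing 𝒞] (χ : ℬ →+*ᵍ 𝒞) (hχ : 𝒞₊ ≤ (ℬ₊).map χ) (y : ProjectiveSpectrum 𝒞) (a : A)
    (s : (ProjectiveSpectrum.comap ψ hψ (ProjectiveSpectrum.comap χ hχ y)).asHomogeneousIdeal.toIdeal.primeCompl) :
    GrTwist.locMap χ hχ y (GrTwist.locMap ψ hψ (ProjectiveSpectrum.comap χ hχ y) (Localization.mk a s)) =
      Localization.mk (χ (ψ a)) ⟨χ (ψ (s : A)), s.2⟩ := by
  rw [GrTwist.locMap_mk, GrTwist.locMap_mk]

theorem bijective_locMap_toZ (y : ProjectiveSpectrum (zg 𝒜)) :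
    Function.Bijective (GrTwist.locMap (toZ 𝒜) (toZ_irr 𝒜) y) := by
  constructor
  · intro p q hpq
    induction p using Localization.induction_on with
    | H p => induction q using Localization.induction_on with
      | H q =>
        obtain ⟨a, s⟩ := p
        obtain ⟨b, t⟩ := q
        rw [GrTwist.locMap_mk, GrTwist.locMap_mk, Localization.mk_eq_mk_iff, Localization.r_iff_exists] at hpq
        obtain ⟨c, hc⟩ := hpq
        rw [Localization.mk_eq_mk_iff, Localization.r_iff_exists]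
        exact ⟨⟨c.1, c.2⟩, hc⟩
  · intro q
    induction q using Localization.induction_on with
    | H q =>
      obtain ⟨b, t⟩ := q
      exact ⟨Localization.mk b ⟨t.1, t.2⟩, GrTwist.locMap_mk _ _ _ _ _⟩

theorem exists_rep {B τ : Type u} [CommRing B] [SetLike τ B] [AddSubgroupClass τ B] {ℬ : ℕ → τ} [GradedRing ℬ]
    {n : ℤ} {V : TopologicalSpace.Opens (ProjectiveSpectrum.top ℬ)} (t : GrTwist.sectN (𝒜 := ℬ) n (op V))
    (y : ProjectiveSpectrum ℬ) (hy : y ∈ V) :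
    ∃ (a b : B) (hb : b ∉ y.asHomogeneousIdeal), ∀ (z : ProjectiveSpectrum ℬ) (hz : z ∈ V) (h : y = z),
      ((t.1 ⟨z, hz⟩ : GrTwist.twistAt ℬ n z) : GrTwist.Loc ℬ z) = Localization.mk a ⟨b, h ▸ hb⟩ := by
  have ht : (GrTwist.isLocFracN ℬ n).pred t.1 := t.2
  obtain ⟨W, hW, iW, i, j, a, b, hb, hij, hw⟩ := ht ⟨y, hy⟩
  refine ⟨a, b, hb ⟨y, hW⟩, fun z hz h => ?_⟩
  subst h
  exact hw ⟨y, hW⟩

theorem locMap_roundtrip {n : ℤ} {V : TopologicalSpace.Opens (ProjectiveSpectrum.top (zg 𝒜))}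
    (t : GrTwist.sectN (𝒜 := zg 𝒜) n (op V)) (y : ProjectiveSpectrum (zg 𝒜)) (hy : y ∈ V)
    (hy' : ProjectiveSpectrum.comap (ofZ 𝒜) (ofZ_irr 𝒜) (ProjectiveSpectrum.comap (toZ 𝒜) (toZ_irr 𝒜) y) ∈ V) :
    GrTwist.locMap (toZ 𝒜) (toZ_irr 𝒜) y (GrTwist.locMap (ofZ 𝒜) (ofZ_irr 𝒜) _
      ((t.1 ⟨_, hy'⟩ : GrTwist.twistAt (zg 𝒜) n _) : GrTwist.Loc (zg 𝒜) _)) =
      ((t.1 ⟨y, hy⟩ : GrTwist.twistAt (zg 𝒜) n y) : GrTwist.Loc (zg 𝒜) y) := by
  refine (exists_rep t y hy).elim fun a h => h.elim fun b h => h.elim fun hb hw => ?_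
  have e : ProjectiveSpectrum.comap (ofZ 𝒜) (ofZ_irr 𝒜) (ProjectiveSpectrum.comap (toZ 𝒜) (toZ_irr 𝒜) y) = y :=
    ProjectiveSpectrum.ext (HomogeneousIdeal.ext rfl)
  refine (congrArg (fun q => GrTwist.locMap (toZ 𝒜) (toZ_irr 𝒜) y (GrTwist.locMap (ofZ 𝒜) (ofZ_irr 𝒜) _ q))
    (hw _ hy' e.symm)).trans ?_
  refine Eq.trans ?_ (hw y hy rfl).symm
  exact (congrArg (GrTwist.locMap (toZ 𝒜) (toZ_irr 𝒜) y) (GrTwist.locMap_mk _ _ _ _ _)).trans
    (GrTwist.locMap_mk _ _ _ _ _)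

theorem bijective_comapApp_toZ (n : ℤ) (U : TopologicalSpace.Opens (ProjectiveSpectrum.top 𝒜))
    (V : TopologicalSpace.Opens (ProjectiveSpectrum.top (zg 𝒜)))
    (hVU : ∀ y : ProjectiveSpectrum (zg 𝒜), y ∈ V ↔ ProjectiveSpectrum.comap (toZ 𝒜) (toZ_irr 𝒜) y ∈ U) :
    Function.Bijective (GrTwist.comapApp (toZ 𝒜) (toZ_irr 𝒜) n U V (fun y hy => (hVU y).mp hy)) := by
  have hsur : ∀ x : ProjectiveSpectrum 𝒜, ∃ y : ProjectiveSpectrum (zg 𝒜),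
      ProjectiveSpectrum.comap (toZ 𝒜) (toZ_irr 𝒜) y = x := fun x =>
    ⟨ProjectiveSpectrum.comap (ofZ 𝒜) (ofZ_irr 𝒜) x, ProjectiveSpectrum.ext (HomogeneousIdeal.ext rfl)⟩
  constructor
  · intro s t hst
    refine Subtype.ext (funext fun x => Subtype.ext ?_)
    obtain ⟨x, hx⟩ := x
    obtain ⟨y, rfl⟩ := hsur x
    refine (bijective_locMap_toZ 𝒜 y).1 ?_
    exact congrArg (fun w => ((w : GrTwist.sectN (𝒜 := zg 𝒜) n (op V)).1 ⟨y, (hVU y).mpr hx⟩ :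
      GrTwist.Loc (zg 𝒜) y)) hst
  · intro t
    refine ⟨GrTwist.comapApp (ofZ 𝒜) (ofZ_irr 𝒜) n V U (fun x hx => ?_) t, ?_⟩
    · refine (hVU _).mpr ?_
      rw [show ProjectiveSpectrum.comap (toZ 𝒜) (toZ_irr 𝒜) (ProjectiveSpectrum.comap (ofZ 𝒜) (ofZ_irr 𝒜) x) = x
        from ProjectiveSpectrum.ext (HomogeneousIdeal.ext rfl)]
      exact hx
    · exact Subtype.ext (funext fun y => Subtype.ext (locMap_roundtrip 𝒜 t y.1 y.2 _))

theorem bijective_comapApp (n : ℤ) (U : (Proj 𝒜).Opens) :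
    Function.Bijective (GrTwist.comapApp (toZ 𝒜) (toZ_irr 𝒜) n U ((projIso 𝒜).hom ⁻¹ᵁ U) Set.Subset.rfl) :=
  bijective_comapApp_toZ 𝒜 n U ((projIso 𝒜).hom ⁻¹ᵁ U) fun _ => Iff.rfl

/-- The direct image of the twist for the submodule grading is the twist. -/
theorem exists_twistIso (n : ℤ) :
    ∃ e : GrTwist.twist 𝒜 n ≅ (Scheme.Modules.pushforward (projIso 𝒜).hom).obj (Twist.twist (zg 𝒜) n),
      e.hom = GrTwist.comap (toZ 𝒜) (toZ_irr 𝒜) n := by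
  haveI : IsIso (GrTwist.comap (toZ 𝒜) (toZ_irr 𝒜) n) := by
    refine Scheme.Modules.Hom.isIso_iff_isIso_app.mpr fun U => ?_
    exact (ConcreteCategory.isIso_iff_bijective _).mpr (bijective_comapApp 𝒜 n U)
  exact ⟨asIso (GrTwist.comap (toZ 𝒜) (toZ_irr 𝒜) n), rfl⟩

end GrothLib.RelProjK
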