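import Groth.Prelude.Def_RelProj2
import Groth.Agent.Lib.RelProjK.Bridge

/-!
# The twisting sheaf of a relative Proj on a chart
-/

set_option autoImplicit false
set_option backward.isDefEq.respectTransparency false

universe u

open CategoryTheory AlgebraicGeometry TopologicalSpace Opposite
open scoped HomogeneousIdeal

noncomputable section

namespace GrothLib.RelProjK

/-- A map to a direct image along an open immersion which is bijective over the image computes the inverse image. -/
theorem nonempty_pullback_iso_of_bijective {X Y : Scheme.{u}} (j : Y ⟶ X) [IsOpenImmersion j] {L : X.Modules}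
    {M : Y.Modules} (φ : L ⟶ (Scheme.Modules.pushforward j).obj M)
    (h : ∀ W : X.Opens, W ≤ j.opensRange → Function.Bijective (φ.app W)) :
    Nonempty ((Scheme.Modules.pullback j).obj L ≅ M) := by
  let ψ : L.restrict j ⟶ M :=
    (Scheme.Modules.restrictFunctor j).map φ ≫ (Scheme.Modules.restrictAdjunction j).counit.app M
  haveI : IsIso ψ := by
    refine Scheme.Modules.Hom.isIso_iff_isIso_app.mpr fun V => ?_
    haveI : IsIso (φ.app (j ''ᵁ V)) :=
      (ConcreteCategory.isIso_iff_bijective _).mpr (h _ (Scheme.Hom.image_le_opensRange j V))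
    show IsIso (φ.app (j ''ᵁ V) ≫ ((Scheme.Modules.restrictAdjunction j).counit.app M).app V)
    rw [Scheme.Modules.restrictAdjunction_counit_app_app]
    infer_instance
  exact ⟨((Scheme.Modules.restrictFunctorIsoPullback j).app L).symm ≪≫ asIso ψ⟩

section degOne

variable {A : Type u} [CommRing A] (𝒜 : ℕ → AddSubgroup A) [GradedRing 𝒜]

theorem irrelevant_le_span_deg_one
    (hgen : Subring.closure ((𝒜 0 : Set A) ∪ (𝒜 1 : Set A)) = ⊤) :
    (𝒜₊).toIdeal ≤ Ideal.span (𝒜 1 : Set A) := by
  intro a ha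
  have key : ∀ x ∈ Subring.closure ((𝒜 0 : Set A) ∪ (𝒜 1 : Set A)),
      x - GradedRing.projZeroRingHom 𝒜 x ∈ Ideal.span (𝒜 1 : Set A) := by
    intro x hx
    induction hx using Subring.closure_induction with
    | mem x hx =>
      rcases hx with hx | hx
      · rw [show GradedRing.projZeroRingHom 𝒜 x = x from DirectSum.decompose_of_mem_same 𝒜 hx, sub_self]
        exact zero_mem _
      · rw [show GradedRing.projZeroRingHom 𝒜 x = 0 from DirectSum.decompose_of_mem_ne 𝒜 hx one_ne_zero, sub_zero]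
        exact Ideal.subset_span hx
    | zero => simp
    | one => rw [map_one, sub_self]; exact zero_mem _
    | add x y _ _ hx hy =>
      rw [map_add, show x + y - (GradedRing.projZeroRingHom 𝒜 x + GradedRing.projZeroRingHom 𝒜 y) =
        (x - GradedRing.projZeroRingHom 𝒜 x) + (y - GradedRing.projZeroRingHom 𝒜 y) by ring]
      exact add_mem hx hy
    | neg x _ hx =>
      rw [map_neg, show -x - -GradedRing.projZeroRingHom 𝒜 x = -(x - GradedRing.projZeroRingHom 𝒜 x) by ring]
      exact neg_mem hx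
    | mul x y _ _ hx hy =>
      rw [map_mul, show x * y - GradedRing.projZeroRingHom 𝒜 x * GradedRing.projZeroRingHom 𝒜 y =
        (x - GradedRing.projZeroRingHom 𝒜 x) * y +
          GradedRing.projZeroRingHom 𝒜 x * (y - GradedRing.projZeroRingHom 𝒜 y) by ring]
      exact add_mem (Ideal.mul_mem_right _ _ hx) (Ideal.mul_mem_left _ _ hy)
  have h0 : GradedRing.projZeroRingHom 𝒜 a = 0 := (HomogeneousIdeal.mem_irrelevant_iff 𝒜 a).mp ha
  have := key a (hgen ▸ trivial)
  rwa [h0, sub_zero] at this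

theorem exists_deg_one_notMem (hgen : Subring.closure ((𝒜 0 : Set A) ∪ (𝒜 1 : Set A)) = ⊤)
    (x : Proj (zg 𝒜)) : ∃ f : A, f ∈ zg 𝒜 1 ∧ f ∉ x.asHomogeneousIdeal := by
  by_contra hc
  simp only [not_exists, not_and, not_not] at hc
  refine x.not_irrelevant_le fun a ha => ?_
  exact Ideal.span_le.mpr hc (irrelevant_le_span_deg_one 𝒜 hgen ha)

end degOne

variable {S P : Scheme.{u}} {𝒮 : RelProj.QCGrAlg S} (p : P ⟶ S)
  (chart : ∀ (U : S.Opens) (hU : IsAffineOpen U), (((p ⁻¹ᵁ U : P.Opens) : Scheme.{u}) ≅ Proj (𝒮.deg U hU)))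
  (U : S.Opens) (hU : IsAffineOpen U)

/-- The chart over an affine open, for the grading by submodules. -/
def embZ : Proj (zg (𝒮.deg U hU)) ⟶ P := (projIso (𝒮.deg U hU)).hom ≫ RelProj.emb p chart U hU

instance isOpenImmersion_embZ : IsOpenImmersion (embZ p chart U hU) := by
  unfold embZ; infer_instance

theorem opensRange_emb : (RelProj.emb p chart U hU).opensRange = p ⁻¹ᵁ U := by
  show ((chart U hU).inv ≫ (p ⁻¹ᵁ U).ι).opensRange = _
  rw [Scheme.Hom.opensRange_comp_of_isIso, Scheme.Opens.opensRange_ι]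

theorem opensRange_embZ : (embZ p chart U hU).opensRange = p ⁻¹ᵁ U := by
  show ((projIso (𝒮.deg U hU)).hom ≫ RelProj.emb p chart U hU).opensRange = _
  rw [Scheme.Hom.opensRange_comp_of_isIso, opensRange_emb]

theorem exists_lift_embZ {X : Scheme.{u}} (g : X ⟶ P) (h : ∀ x, g x ∈ p ⁻¹ᵁ U) :
    ∃ l : X ⟶ Proj (zg (𝒮.deg U hU)), l ≫ embZ p chart U hU = g := by
  refine ⟨IsOpenImmersion.lift (embZ p chart U hU) g ?_, IsOpenImmersion.lift_fac _ _ _⟩
  rintro _ ⟨x, rfl⟩
  exact (congrArg (fun V : P.Opens => (V : Set P)) (opensRange_embZ p chart U hU)).ge (h x)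

variable {p chart}

theorem nonempty_pullback_embZ_iso {n : ℤ} {L : P.Modules}
    {lam : ∀ (U : S.Opens) (hU : IsAffineOpen U),
      L ⟶ (Scheme.Modules.pushforward (RelProj.emb p chart U hU)).obj (GrTwist.twist (𝒮.deg U hU) n)}
    (hL : RelProj.IsRelTwist 𝒮 p chart n L lam) :
    Nonempty ((Scheme.Modules.pullback (embZ p chart U hU)).obj L ≅ Twist.twist (zg (𝒮.deg U hU)) n) := by
  obtain ⟨e⟩ := nonempty_pullback_iso_of_bijective (RelProj.emb p chart U hU) (lam U hU) fun W hW =>
    hL.bijective U hU W (opensRange_emb p chart U hU ▸ hW)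
  obtain ⟨c, -⟩ := exists_twistIso (𝒮.deg U hU) n
  obtain ⟨e'⟩ := nonempty_pullback_iso_of_bijective (projIso (𝒮.deg U hU)).hom c.hom fun W _ =>
    ConcreteCategory.bijective_of_isIso ((Scheme.Modules.toPresheaf _).map c.hom |>.app (op W))
  exact ⟨((Scheme.Modules.pullbackComp (projIso (𝒮.deg U hU)).hom (RelProj.emb p chart U hU)).app L).symm ≪≫
    (Scheme.Modules.pullback (projIso (𝒮.deg U hU)).hom).mapIso e ≪≫ e'⟩

end GrothLib.RelProjK
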