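import Groth.Agent.Lib.RelProjK.ProjProps
import Groth.Agent.Lib.RelProjK.Restrict

/-!
# Finiteness of a relative Proj
-/

set_option autoImplicit false
set_option backward.isDefEq.respectTransparency false

universe u

open CategoryTheory CategoryTheory.Limits AlgebraicGeometry TopologicalSpace Opposite HomogeneousLocalization
open scoped HomogeneousIdeal

noncomputable section

namespace GrothLib.RelProjK

variable {R A : Type u} [CommRing R] [CommRing A] {𝒜 : ℕ → AddSubgroup A} [GradedRing 𝒜] (z : R →+* 𝒜 0)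

theorem finiteType_of_finiteType_str (h : ((algebraMap (𝒜 0) A).comp z).FiniteType) :
    z.FiniteType ∧ Algebra.FiniteType (𝒜 0) A := by
  refine ⟨?_, ?_⟩
  · have e : (GradedRing.projZeroRingHom' 𝒜).comp ((algebraMap (𝒜 0) A).comp z) = z := by
      refine RingHom.ext fun r => ?_
      exact GradedRing.projZeroRingHom'_apply_coe 𝒜 (z r)
    rw [← e]
    exact (RingHom.FiniteType.of_surjective _ (GradedRing.projZeroRingHom'_surjective 𝒜)).comp h
  · exact RingHom.finiteType_algebraMap.mp (RingHom.FiniteType.of_comp_finiteType h)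

theorem finiteType_algebra_of_deg_one (hgen : Subring.closure ((𝒜 0 : Set A) ∪ (𝒜 1 : Set A)) = ⊤) (T : Finset A)
    (hT : ∀ x ∈ 𝒜 1, ∃ c : A → R, x = ∑ t ∈ T, (z (c t) : A) * t) : Algebra.FiniteType (𝒜 0) A := by
  refine ⟨⟨T, eq_top_iff.mpr fun a _ => ?_⟩⟩
  refine (Subring.closure_le (t := (Algebra.adjoin (𝒜 0) (T : Set A)).toSubring)).mpr ?_ (hgen.ge (Subring.mem_top a))
  rintro x (hx | hx)
  · exact Subalgebra.algebraMap_mem (Algebra.adjoin (𝒜 0) (T : Set A)) (⟨x, hx⟩ : 𝒜 0)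
  · obtain ⟨c, rfl⟩ := hT x hx
    exact sum_mem fun t ht => mul_mem (Subalgebra.algebraMap_mem (Algebra.adjoin (𝒜 0) (T : Set A)) (z (c t)))
      (Algebra.subset_adjoin ht)

theorem finiteType_away_deg_one [Algebra.FiniteType (𝒜 0) A] (T : Finset A) (hT1 : (T : Set A) ⊆ (𝒜 1 : Set A))
    (hT : ∀ x ∈ 𝒜 1, ∃ c : A → R, x = ∑ t ∈ T, (z (c t) : A) * t) {f : A} (hf : f ∈ 𝒜 1) :
    ((fromZeroRingHom 𝒜 (Submonoid.powers f)).comp z).FiniteType := by
  classical
  obtain ⟨⟨G, hG⟩⟩ := HomogeneousLocalization.Away.finiteType (𝒜 := 𝒜) f 1 hf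
  letI : Algebra R (Away 𝒜 f) := ((fromZeroRingHom 𝒜 (Submonoid.powers f)).comp z).toAlgebra
  let F : Finset (Away 𝒜 f) := G ∪ T.attach.image fun t => Away.mk 𝒜 hf 1 t.1 (by simpa using hT1 t.2)
  refine RingHom.finiteType_algebraMap.mpr ⟨⟨F, eq_top_iff.mpr fun w _ => ?_⟩⟩
  have hA0 : ∀ c : 𝒜 0, fromZeroRingHom 𝒜 (Submonoid.powers f) c ∈ Algebra.adjoin R (F : Set (Away 𝒜 f)) := by
    intro c
    have hcf : (c : A) * f ∈ 𝒜 1 := by simpa using SetLike.mul_mem_graded c.2 hf
    obtain ⟨r, hr⟩ := hT _ hcf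
    have e : fromZeroRingHom 𝒜 (Submonoid.powers f) c = ∑ t ∈ T.attach,
        algebraMap R (Away 𝒜 f) (r t.1) * Away.mk 𝒜 hf 1 t.1 (by simpa using hT1 t.2) := by
      have h1 : ∀ t : {x // x ∈ T}, algebraMap R (Away 𝒜 f) (r t.1) * Away.mk 𝒜 hf 1 t.1 (by simpa using hT1 t.2) =
          Away.mk 𝒜 hf 1 ((z (r t.1) : A) * t.1)
            (by simpa using SetLike.mul_mem_graded (z (r t.1)).2 (hT1 t.2)) := by
        intro t
        ext
        simp [RingHom.algebraMap_toAlgebra, fromZeroRingHom, HomogeneousLocalization.val_mk, Localization.mk_mul]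
      rw [Finset.sum_congr rfl fun t _ => h1 t]
      apply HomogeneousLocalization.val_injective
      rw [← HomogeneousLocalization.algebraMap_apply, ← HomogeneousLocalization.algebraMap_apply, map_sum]
      simp only [HomogeneousLocalization.algebraMap_apply, Away.val_mk, pow_one]
      rw [← Localization.mk_sum, Finset.sum_attach T (fun t => (z (r t) : A) * t), ← hr]
      simp only [fromZeroRingHom, RingHom.coe_mk, MonoidHom.coe_mk, OneHom.coe_mk, HomogeneousLocalization.val_mk]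
      rw [Localization.mk_eq_mk_iff, Localization.r_iff_exists]
      exact ⟨1, by simp; ring⟩
    rw [e]
    exact sum_mem fun t _ => mul_mem (Subalgebra.algebraMap_mem _ _)
      (Algebra.subset_adjoin (Finset.mem_union_right _ (Finset.mem_image_of_mem _ (Finset.mem_attach T t))))
  have : w ∈ Algebra.adjoin (𝒜 0) (G : Set (Away 𝒜 f)) := hG ▸ trivial
  induction this using Algebra.adjoin_induction with
  | mem x hx => exact Algebra.subset_adjoin (Finset.mem_union_left _ hx)
  | algebraMap c => exact hA0 c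
  | add x y _ _ hx hy => exact add_mem (hx trivial) (hy trivial)
  | mul x y _ _ hx hy => exact mul_mem (hx trivial) (hy trivial)

theorem locallyOfFiniteType_deg_one (hgen : Subring.closure ((𝒜 0 : Set A) ∪ (𝒜 1 : Set A)) = ⊤) (T : Finset A)
    (hT1 : (T : Set A) ⊆ (𝒜 1 : Set A)) (hT : ∀ x ∈ 𝒜 1, ∃ c : A → R, x = ∑ t ∈ T, (z (c t) : A) * t) :
    LocallyOfFiniteType (Proj.toSpecZero 𝒜 ≫ Spec.map (CommRingCat.ofHom z)) := by
  haveI := finiteType_algebra_of_deg_one z hgen T hT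
  rw [IsZariskiLocalAtSource.iff_of_openCover (P := @LocallyOfFiniteType)
    (Proj.affineOpenCoverOfIrrelevantLESpan 𝒜 (fun f : 𝒜 1 => (f : A)) (fun f => f.2) (fun _ => Nat.one_pos)
      ((irrelevant_le_span_deg_one 𝒜 hgen).trans (Ideal.span_mono fun x hx => ⟨⟨x, hx⟩, rfl⟩))).openCover]
  show ∀ f : 𝒜 1, _
  intro f
  show LocallyOfFiniteType (Proj.awayι 𝒜 (f : A) f.2 Nat.one_pos ≫ Proj.toSpecZero 𝒜 ≫ Spec.map (CommRingCat.ofHom z))
  rw [Proj.awayι_toSpecZero_assoc, ← Spec.map_comp, HasRingHomProperty.Spec_iff (P := @LocallyOfFiniteType)]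
  exact finiteType_away_deg_one z T hT1 hT f.2

end GrothLib.RelProjK
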