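import Groth.Prelude.Def_GrTwist

/-!
# Products and generators of twists, for gradings by additive subgroups
-/

set_option autoImplicit false
set_option backward.isDefEq.respectTransparency false

universe u

open CategoryTheory AlgebraicGeometry TopologicalSpace Opposite
open scoped HomogeneousIdeal

noncomputable section

set_option synthInstance.maxHeartbeats 80000

namespace GrothLib.RelProjK

variable {A σ : Type u} [CommRing A] [SetLike σ A] [AddSubgroupClass σ A] {𝒜 : ℕ → σ} [GradedRing 𝒜]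
  {V : Opens (ProjectiveSpectrum.top 𝒜)}

/-- The value of a section. -/
abbrev gv {n : ℤ} (t : GrTwist.sectN (𝒜 := 𝒜) n (op V)) (y : V) : GrTwist.Loc 𝒜 y.1 :=
  ((t.1 y : GrTwist.twistAt 𝒜 n y.1) : GrTwist.Loc 𝒜 y.1)

theorem gv_ext {n : ℤ} {t t' : GrTwist.sectN (𝒜 := 𝒜) n (op V)} (h : ∀ y, gv t y = gv t' y) : t = t' :=
  Subtype.ext (funext fun y => Subtype.ext (h y))

theorem exists_frac_rep {n : ℤ} (t : GrTwist.sectN (𝒜 := 𝒜) n (op V)) (x : V) :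
    ∃ (W : Opens (ProjectiveSpectrum.top 𝒜)) (_ : x.1 ∈ W) (hW : W ≤ V) (i j : ℕ) (a : 𝒜 i) (s : 𝒜 j)
      (nin : ∀ w : W, (s : A) ∉ w.1.asHomogeneousIdeal),
      ((i : ℤ) = j + n ∨ (a : A) = 0) ∧
        ∀ w : W, gv t ⟨w.1, hW w.2⟩ = Localization.mk (a : A) ⟨s, nin w⟩ := by
  have ht : (GrTwist.isLocFracN 𝒜 n).pred t.1 := t.2
  obtain ⟨W, hW, iW, i, j, a, s, nin, hd, hw⟩ := ht x
  exact ⟨W, hW, leOfHom iW, i, j, a, s, nin, hd, hw⟩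

theorem exists_rep_mul {m n k : ℤ} (h : m + n = k) (t : GrTwist.sectN (𝒜 := 𝒜) m (op V))
    (t' : GrTwist.sectN (𝒜 := 𝒜) n (op V)) (x : V) :
    ∃ (W : Opens (ProjectiveSpectrum.top 𝒜)) (_ : x.1 ∈ W) (hW : W ≤ V) (i j : ℕ) (a : 𝒜 i) (s : 𝒜 j)
      (nin : ∀ w : W, (s : A) ∉ w.1.asHomogeneousIdeal),
      ((i : ℤ) = j + k ∨ (a : A) = 0) ∧
        ∀ w : W, gv t ⟨w.1, hW w.2⟩ * gv t' ⟨w.1, hW w.2⟩ = Localization.mk (a : A) ⟨s, nin w⟩ := by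
  obtain ⟨W₁, hx₁, hW₁, i₁, j₁, ⟨a, ha⟩, ⟨s, hs⟩, nin₁, hd₁, hw₁⟩ := exists_frac_rep t x
  obtain ⟨W₂, hx₂, hW₂, i₂, j₂, ⟨b, hb⟩, ⟨r, hr⟩, nin₂, hd₂, hw₂⟩ := exists_frac_rep t' x
  refine ⟨W₁ ⊓ W₂, ⟨hx₁, hx₂⟩, inf_le_left.trans hW₁, i₁ + i₂, j₁ + j₂, ⟨a * b, SetLike.mul_mem_graded ha hb⟩,
    ⟨s * r, SetLike.mul_mem_graded hs hr⟩, fun w hm => (w.1.isPrime.mem_or_mem hm).elim (nin₁ ⟨w.1, w.2.1⟩)
      (nin₂ ⟨w.1, w.2.2⟩), ?_, fun w => ?_⟩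
  · rcases hd₁ with h₁ | h₁
    · rcases hd₂ with h₂ | h₂
      · exact Or.inl (by push_cast; omega)
      · exact Or.inr (show a * b = 0 by rw [show b = 0 from h₂, mul_zero])
    · exact Or.inr (show a * b = 0 by rw [show a = 0 from h₁, zero_mul])
  · refine (congrArg₂ (· * ·) (hw₁ ⟨w.1, w.2.1⟩) (hw₂ ⟨w.1, w.2.2⟩)).trans ?_
    exact Localization.mk_mul _ _ _ _

theorem mul_mem_twistAt {m n k : ℤ} (h : m + n = k) (t : GrTwist.sectN (𝒜 := 𝒜) m (op V))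
    (t' : GrTwist.sectN (𝒜 := 𝒜) n (op V)) (x : V) : gv t x * gv t' x ∈ GrTwist.twistAt 𝒜 k x.1 := by
  obtain ⟨W, hx, hW, i, j, a, s, nin, hd, hw⟩ := exists_rep_mul h t t' x
  rw [show gv t x * gv t' x = _ from hw ⟨x.1, hx⟩]
  rcases hd with h' | h'
  · exact Submodule.subset_span ⟨i, j, a, s, nin ⟨x.1, hx⟩, h', rfl⟩
  · rw [h', Localization.mk_zero]; exact zero_mem _

/-- The product of sections of twists. -/
def mulSec {m n k : ℤ} (h : m + n = k) (t : GrTwist.sectN (𝒜 := 𝒜) m (op V))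
    (t' : GrTwist.sectN (𝒜 := 𝒜) n (op V)) : GrTwist.sectN (𝒜 := 𝒜) k (op V) :=
  ⟨fun x => ⟨gv t x * gv t' x, mul_mem_twistAt h t t' x⟩, fun x => by
    obtain ⟨W, hx, hW, i, j, a, s, nin, hd, hw⟩ := exists_rep_mul h t t' x
    exact ⟨W, hx, homOfLE hW, i, j, a, s, nin, hd, hw⟩⟩

theorem gv_mulSec {m n k : ℤ} (h : m + n = k) (t : GrTwist.sectN (𝒜 := 𝒜) m (op V))
    (t' : GrTwist.sectN (𝒜 := 𝒜) n (op V)) (y : V) : gv (mulSec h t t') y = gv t y * gv t' y := rfl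

/-- One fraction as a section. -/
def fracSec {i j : ℕ} (P Q : A) (hP : P ∈ 𝒜 i) (hQ : Q ∈ 𝒜 j) (nin : ∀ y : V, Q ∉ y.1.asHomogeneousIdeal)
    {n : ℤ} (hd : (i : ℤ) = j + n) : GrTwist.sectN (𝒜 := 𝒜) n (op V) :=
  ⟨fun y => ⟨Localization.mk P ⟨Q, nin y⟩, Submodule.subset_span ⟨i, j, ⟨P, hP⟩, ⟨Q, hQ⟩, nin y, hd, rfl⟩⟩,
    fun y => ⟨V, y.2, 𝟙 _, i, j, ⟨P, hP⟩, ⟨Q, hQ⟩, nin, Or.inl hd, fun _ => rfl⟩⟩

theorem gv_fracSec {i j : ℕ} (P Q : A) (hP : P ∈ 𝒜 i) (hQ : Q ∈ 𝒜 j) (nin : ∀ y : V, Q ∉ y.1.asHomogeneousIdeal)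
    {n : ℤ} (hd : (i : ℤ) = j + n) (y : V) : gv (fracSec P Q hP hQ nin hd) y = Localization.mk P ⟨Q, nin y⟩ := rfl

/-- A section of degree zero is a function. -/
theorem exists_fun_eq (t : GrTwist.sectN (𝒜 := 𝒜) 0 (op V)) :
    ∃ r : GrTwist.O (𝒜 := 𝒜) (op V), ∀ y : V, (r.1 y).val = gv t y := by
  have hloc : ∀ y : V, ∃ (W : Opens (ProjectiveSpectrum.top 𝒜)) (_ : y.1 ∈ W) (hW : W ≤ V) (i : ℕ) (a s : A)
      (ha : a ∈ 𝒜 i) (hs : s ∈ 𝒜 i) (nin : ∀ z : W, s ∉ z.1.asHomogeneousIdeal),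
      ∀ z : W, gv t ⟨z.1, hW z.2⟩ = (HomogeneousLocalization.mk
        (⟨i, ⟨a, ha⟩, ⟨s, hs⟩, nin z⟩ :
          HomogeneousLocalization.NumDenSameDeg 𝒜 z.1.asHomogeneousIdeal.toIdeal.primeCompl)).val := by
    intro y
    obtain ⟨W, hy, hW, p, q, ⟨a, ha⟩, ⟨s, hs⟩, nin, hd, hw⟩ := exists_frac_rep t y
    rcases hd with hd | hd
    · obtain rfl : p = q := by omega
      refine ⟨W, hy, hW, p, a, s, ha, hs, nin, fun z => (hw z).trans ?_⟩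
      exact (HomogeneousLocalization.val_mk (⟨p, ⟨a, ha⟩, ⟨s, hs⟩, nin z⟩ :
        HomogeneousLocalization.NumDenSameDeg 𝒜 z.1.asHomogeneousIdeal.toIdeal.primeCompl)).symm
    · refine ⟨W, hy, hW, q, 0, s, zero_mem _, hs, nin, fun z => (hw z).trans ?_⟩
      obtain rfl : a = 0 := hd
      exact (HomogeneousLocalization.val_mk (⟨q, ⟨0, zero_mem (𝒜 q)⟩, ⟨s, hs⟩, nin z⟩ :
        HomogeneousLocalization.NumDenSameDeg 𝒜 z.1.asHomogeneousIdeal.toIdeal.primeCompl)).symm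
  choose W hyW hWV i a s ha hs nin hval using hloc
  refine ⟨⟨fun y => HomogeneousLocalization.mk ⟨i y, ⟨a y, ha y⟩, ⟨s y, hs y⟩, nin y ⟨y.1, hyW y⟩⟩,
    fun y => ⟨W y, hyW y, homOfLE (hWV y), i y, ⟨a y, ha y⟩, ⟨s y, hs y⟩, nin y, fun z => ?_⟩⟩, ?_⟩
  · refine HomogeneousLocalization.val_injective _ ?_
    exact (hval _ ⟨z.1, hyW ⟨z.1, hWV y z.2⟩⟩).symm.trans (hval y z)
  · exact fun y => (hval y ⟨y.1, hyW y⟩).symm

theorem gv_smul {n : ℤ} (r : GrTwist.O (𝒜 := 𝒜) (op V)) (t : GrTwist.sectN (𝒜 := 𝒜) n (op V)) (y : V) :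
    gv (r • t) y = (r.1 y).val * gv t y :=
  GrTwist.coe_smul_val n y.1 (r.1 y) (t.1 y)

theorem frac_mul_inv {P Q : A} {y : ProjectiveSpectrum 𝒜} (hP : P ∉ y.asHomogeneousIdeal) (hQ : Q ∉ y.asHomogeneousIdeal) :
    (Localization.mk P ⟨Q, hQ⟩ : GrTwist.Loc 𝒜 y) * Localization.mk Q ⟨P, hP⟩ = 1 := by
  rw [Localization.mk_mul]
  simp only [mul_comm P Q]
  exact Localization.mk_self (⟨Q, hQ⟩ * ⟨P, hP⟩ : y.asHomogeneousIdeal.toIdeal.primeCompl)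

/-- An invertible fraction generates. -/
theorem bijective_smul_fracSec {i j : ℕ} {P Q : A} (hP : P ∈ 𝒜 i) (hQ : Q ∈ 𝒜 j)
    (ninP : ∀ y : V, P ∉ y.1.asHomogeneousIdeal) (ninQ : ∀ y : V, Q ∉ y.1.asHomogeneousIdeal)
    {n : ℤ} (hd : (i : ℤ) = j + n) :
    Function.Bijective fun r : GrTwist.O (𝒜 := 𝒜) (op V) => r • fracSec P Q hP hQ ninQ hd := by
  constructor
  · intro r r' hrr
    refine Subtype.ext (funext fun y => HomogeneousLocalization.val_injective _ ?_)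
    have h := congrArg (fun t => gv t y * Localization.mk Q ⟨P, ninP y⟩) hrr
    have key : ∀ u : GrTwist.O (𝒜 := 𝒜) (op V),
        gv (u • fracSec P Q hP hQ ninQ hd) y * Localization.mk Q ⟨P, ninP y⟩ = (u.1 y).val := fun u => by
      erw [gv_smul, gv_fracSec, mul_assoc, frac_mul_inv (ninP y) (ninQ y), mul_one]
    exact (key r).symm.trans (h.trans (key r'))
  · intro t
    obtain ⟨r, hr⟩ := exists_fun_eq (mulSec (k := 0) (m := n) (n := -n) (by omega) t (fracSec Q P hQ hP ninP (by omega)))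
    refine ⟨r, gv_ext fun y => ?_⟩
    rw [gv_smul, hr y, gv_mulSec, gv_fracSec, gv_fracSec, mul_assoc, frac_mul_inv (ninQ y) (ninP y), mul_one]

/-- Multiplication by an invertible fraction is bijective. -/
theorem bijective_mulSec_fracSec {m n k : ℤ} (h : m + n = k) {i j : ℕ} {P Q : A} (hP : P ∈ 𝒜 i) (hQ : Q ∈ 𝒜 j)
    (ninP : ∀ y : V, P ∉ y.1.asHomogeneousIdeal) (ninQ : ∀ y : V, Q ∉ y.1.asHomogeneousIdeal)
    (hd : (i : ℤ) = j + n) :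
    Function.Bijective fun t : GrTwist.sectN (𝒜 := 𝒜) m (op V) => mulSec h t (fracSec P Q hP hQ ninQ hd) := by
  refine Function.bijective_iff_has_inverse.mpr
    ⟨fun t => mulSec (m := k) (n := -n) (k := m) (by omega) t (fracSec Q P hQ hP ninP (by omega)),
      fun t => gv_ext fun y => ?_, fun t => gv_ext fun y => ?_⟩
  · rw [gv_mulSec, gv_mulSec, gv_fracSec, gv_fracSec, mul_assoc, frac_mul_inv (ninP y) (ninQ y), mul_one]
  · rw [gv_mulSec, gv_mulSec, gv_fracSec, gv_fracSec, mul_assoc, frac_mul_inv (ninQ y) (ninP y), mul_one]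

/-- Invertible fractions of degree a multiple of the degree of `f`. -/
theorem exists_frac_deg {d : ℕ} {f : A} (hf : f ∈ 𝒜 d) (q : ℤ) :
    ∃ (i j : ℕ) (P Q : A), P ∈ 𝒜 i ∧ Q ∈ 𝒜 j ∧ (i : ℤ) = j + d * q ∧
      ∀ y : ProjectiveSpectrum 𝒜, f ∉ y.asHomogeneousIdeal → P ∉ y.asHomogeneousIdeal ∧ Q ∉ y.asHomogeneousIdeal := by
  refine ⟨q.toNat • d, (-q).toNat • d, f ^ q.toNat, f ^ (-q).toNat, SetLike.pow_mem_graded _ hf,
    SetLike.pow_mem_graded _ hf, ?_, fun y hy => ⟨fun h => hy (y.isPrime.mem_of_pow_mem _ h),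
      fun h => hy (y.isPrime.mem_of_pow_mem _ h)⟩⟩
  simp only [smul_eq_mul]
  push_cast
  linear_combination (d : ℤ) * Int.toNat_sub_toNat_neg q

end GrothLib.RelProjK
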