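import Groth.Agent.Lib.RelProjK.Twist
import Groth.Agent.Lib.RelProjK.GTMul
import Groth.Agent.Lib.RelProjK.Restrict
import Groth.Agent.Lib.Ample.ModTwist

/-!
# Tensor products of twisting sheaves of a relative Proj
-/

set_option autoImplicit false
set_option backward.isDefEq.respectTransparency false
set_option synthInstance.maxHeartbeats 80000

universe u

open CategoryTheory AlgebraicGeometry TopologicalSpace Opposite MonoidalCategory
open scoped HomogeneousIdeal
open scoped TensorProduct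

noncomputable section

namespace GrothLib.RelProjK

variable {S P : Scheme.{u}} {𝒮 : RelProj.QCGrAlg S} {p : P ⟶ S}
  {chart : ∀ (U : S.Opens) (hU : IsAffineOpen U), (((p ⁻¹ᵁ U : P.Opens) : Scheme.{u}) ≅ Proj (𝒮.deg U hU))}

/-- A section on a chart, in terms of the twist of the graded ring. -/
abbrev toSec {n : ℤ} {U : S.AffineZariskiSite} {W : P.Opens} (t : Γ(Tw p chart n U, W)) :
    GrTwist.sectN (𝒜 := dg 𝒮 U) n (op (em p chart U ⁻¹ᵁ W)) := t

/-- A section of the twist, as a section on a chart. -/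
abbrev ofSec {n : ℤ} {U : S.AffineZariskiSite} {W : P.Opens}
    (t : GrTwist.sectN (𝒜 := dg 𝒮 U) n (op (em p chart U ⁻¹ᵁ W))) : Γ(Tw p chart n U, W) := t

theorem vl_smul {n : ℤ} {U : S.AffineZariskiSite} {W : P.Opens} (r : Γ(P, W)) (t : Γ(Tw p chart n U, W))
    (y : ProjectiveSpectrum (dg 𝒮 U)) (hy : em p chart U y ∈ W) :
    vl (r • t) y hy =
      ((show GrTwist.O (𝒜 := dg 𝒮 U) (op (em p chart U ⁻¹ᵁ W)) from (em p chart U).app W r).1 ⟨y, hy⟩).val *
        vl t y hy :=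
  GrTwist.coe_smul_val n y _ _

theorem vl_add {n : ℤ} {U : S.AffineZariskiSite} {W : P.Opens} (t t' : Γ(Tw p chart n U, W))
    (y : ProjectiveSpectrum (dg 𝒮 U)) (hy : em p chart U y ∈ W) :
    vl (t + t') y hy = vl t y hy + vl t' y hy := rfl

/-- The product of sections on a chart. -/
def mulTw {m n k : ℤ} (h : m + n = k) {U : S.AffineZariskiSite} {W : P.Opens} (a : Γ(Tw p chart m U, W))
    (b : Γ(Tw p chart n U, W)) : Γ(Tw p chart k U, W) :=
  ofSec (mulSec h (toSec a) (toSec b))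

theorem vl_mulTw {m n k : ℤ} (h : m + n = k) {U : S.AffineZariskiSite} {W : P.Opens} (a : Γ(Tw p chart m U, W))
    (b : Γ(Tw p chart n U, W)) (y : ProjectiveSpectrum (dg 𝒮 U)) (hy : em p chart U y ∈ W) :
    vl (mulTw h a b) y hy = vl a y hy * vl b y hy := rfl

variable (hP : RelProj.IsRelProj 𝒮 p chart) {m n k : ℤ} (hmn : m + n = k) {L L' L'' : P.Modules}
  {lam : ∀ (U : S.Opens) (hU : IsAffineOpen U),
    L ⟶ (Scheme.Modules.pushforward (RelProj.emb p chart U hU)).obj (GrTwist.twist (𝒮.deg U hU) m)}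
  (hL : RelProj.IsRelTwist 𝒮 p chart m L lam)
  {lam' : ∀ (U : S.Opens) (hU : IsAffineOpen U),
    L' ⟶ (Scheme.Modules.pushforward (RelProj.emb p chart U hU)).obj (GrTwist.twist (𝒮.deg U hU) n)}
  (hL' : RelProj.IsRelTwist 𝒮 p chart n L' lam')
  {lam'' : ∀ (U : S.Opens) (hU : IsAffineOpen U),
    L'' ⟶ (Scheme.Modules.pushforward (RelProj.emb p chart U hU)).obj (GrTwist.twist (𝒮.deg U hU) k)}
  (hL'' : RelProj.IsRelTwist 𝒮 p chart k L'' lam'')

/-- A section read on a chart. -/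
abbrev onChart {n : ℤ} {L : P.Modules}
    (lam : ∀ (U : S.Opens) (hU : IsAffineOpen U),
      L ⟶ (Scheme.Modules.pushforward (RelProj.emb p chart U hU)).obj (GrTwist.twist (𝒮.deg U hU) n))
    (U : S.AffineZariskiSite) {W : P.Opens} (s : Γ(L, W)) : Γ(Tw p chart n U, W) := (lam U.1 U.2).app W s

theorem onChart_add {n : ℤ} {L : P.Modules}
    (lam : ∀ (U : S.Opens) (hU : IsAffineOpen U),
      L ⟶ (Scheme.Modules.pushforward (RelProj.emb p chart U hU)).obj (GrTwist.twist (𝒮.deg U hU) n))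
    (U : S.AffineZariskiSite) {W : P.Opens} (s t : Γ(L, W)) :
    onChart lam U (s + t) = onChart lam U s + onChart lam U t := map_add _ _ _

theorem onChart_smul {n : ℤ} {L : P.Modules}
    (lam : ∀ (U : S.Opens) (hU : IsAffineOpen U),
      L ⟶ (Scheme.Modules.pushforward (RelProj.emb p chart U hU)).obj (GrTwist.twist (𝒮.deg U hU) n))
    (U : S.AffineZariskiSite) {W : P.Opens} (r : Γ(P, W)) (s : Γ(L, W)) :
    onChart lam U (r • s) = r • onChart lam U s := Scheme.Modules.Hom.app_smul _ r s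

include hP hL'' in
theorem twist_ext {W : P.Opens} {a b : Γ(L'', W)}
    (h : ∀ (U : S.AffineZariskiSite) y hy, vl (onChart lam'' U a) y hy = vl (onChart lam'' U b) y hy) : a = b :=
  (existsUnique_section hP k hL'' _ (isFam_of_isRelTwist hP k hL'' b)).unique (fun U => vl_ext (h U)) fun _ => rfl

include hL hL' in
theorem isFam_mul {W : P.Opens} (s : Γ(L, W)) (t : Γ(L', W)) :
    IsFam (Tw p chart k) (cm hP k) fun U => mulTw hmn (onChart lam U s) (onChart lam' U t) := by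
  intro U V h
  refine vl_ext fun y hy => ?_
  rw [vl_cm, vl_mulTw, vl_mulTw, map_mul]
  exact congrArg₂ (· * ·)
    ((vl_cm hP h _ y hy).symm.trans (congrArg (fun v => vl v y hy) (isFam_of_isRelTwist hP m hL s U V h)))
    ((vl_cm hP h _ y hy).symm.trans (congrArg (fun v => vl v y hy) (isFam_of_isRelTwist hP n hL' t U V h)))

/-- The product of sections. -/
def mulL {W : P.Opens} (s : Γ(L, W)) (t : Γ(L', W)) : Γ(L'', W) :=
  (existsUnique_section hP k hL'' _ (isFam_mul hP hmn hL hL' s t)).exists.choose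

theorem vl_mulL {W : P.Opens} (s : Γ(L, W)) (t : Γ(L', W)) (U : S.AffineZariskiSite)
    (y : ProjectiveSpectrum (dg 𝒮 U)) (hy : em p chart U y ∈ W) :
    vl (onChart lam'' U (mulL hP hmn hL hL' hL'' s t)) y hy =
      vl (onChart lam U s) y hy * vl (onChart lam' U t) y hy :=
  congrArg (fun v => vl v y hy)
    ((existsUnique_section hP k hL'' _ (isFam_mul hP hmn hL hL' s t)).exists.choose_spec U)

theorem onChart_mulL {W : P.Opens} (s : Γ(L, W)) (t : Γ(L', W)) (U : S.AffineZariskiSite) :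
    onChart lam'' U (mulL hP hmn hL hL' hL'' s t) = mulTw hmn (onChart lam U s) (onChart lam' U t) :=
  (existsUnique_section hP k hL'' _ (isFam_mul hP hmn hL hL' s t)).exists.choose_spec U

set_option maxHeartbeats 1000000 in
/-- The product on the presheaf tensor product. -/
def mulPreL : CohB1.tensorPre L L' ⟶ CohB1.toPMod L'' where
  app V := ModuleCat.MonoidalCategory.tensorLift
    (fun (s : Γ(L, V.unop)) (t : Γ(L', V.unop)) => mulL hP hmn hL hL' hL'' s t)
    (fun s s' t => twist_ext hP hL'' fun U y hy => by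
      rw [onChart_add, vl_add, vl_mulL, vl_mulL, vl_mulL, onChart_add, vl_add, add_mul])
    (fun (r : Γ(P, V.unop)) (s : Γ(L, V.unop)) (t : Γ(L', V.unop)) => twist_ext hP hL'' fun U y hy => by
      rw [onChart_smul, vl_smul, vl_mulL, vl_mulL, onChart_smul, vl_smul, mul_assoc])
    (fun s t t' => twist_ext hP hL'' fun U y hy => by
      rw [onChart_add, vl_add, vl_mulL, vl_mulL, vl_mulL, onChart_add, vl_add, mul_add])
    (fun (r : Γ(P, V.unop)) (s : Γ(L, V.unop)) (t : Γ(L', V.unop)) => twist_ext hP hL'' fun U y hy => by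
      rw [onChart_smul, vl_smul, vl_mulL, vl_mulL, onChart_smul, vl_smul, mul_left_comm])
  naturality {V W} f := ModuleCat.MonoidalCategory.tensor_ext
    (fun (s : Γ(L, V.unop)) (t : Γ(L', V.unop)) => by
      show mulL hP hmn hL hL' hL'' (tr L (leOfHom f.unop) s) (tr L' (leOfHom f.unop) t) =
        tr L'' (leOfHom f.unop) (mulL hP hmn hL hL' hL'' s t)
      refine twist_ext hP hL'' fun U y hy => ?_
      refine (vl_mulL hP hmn hL hL' hL'' _ _ U y hy).trans ?_
      simp only [onChart, app_tr]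
      exact (vl_mulL hP hmn hL hL' hL'' s t U y (leOfHom f.unop hy)).symm)

include hP hmn hL hL' hL'' in
/-- Tensoring twists adds degrees where invertible fractions exist. -/
theorem nonempty_tensor_iso
    (hx : ∀ x : P, ∃ (U : S.AffineZariskiSite) (y : ProjectiveSpectrum (dg 𝒮 U)) (i j : ℕ)
      (A B : 𝒮.presheaf.obj (op U.1)), em p chart U y = x ∧ A ∈ dg 𝒮 U i ∧ B ∈ dg 𝒮 U j ∧ (i : ℤ) = j + n ∧
        A ∉ y.asHomogeneousIdeal ∧ B ∉ y.asHomogeneousIdeal) :
    Nonempty (CohB1.tensorMod L L' ≅ L'') := by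
  refine Ample.nonempty_tensorMod_iso_of_bijective (mulPreL hP hmn hL hL' hL'') fun x => ?_
  obtain ⟨U, y, i, j, A, B, hyx, hA, hB, hd, hAy, hBy⟩ := hx x
  let D : P.Opens := em p chart U ''ᵁ Proj.basicOpen (dg 𝒮 U) (A * B)
  have hyD : y ∈ Proj.basicOpen (dg 𝒮 U) (A * B) := fun h => (y.isPrime.mem_or_mem h).elim hAy hBy
  refine ⟨D, ⟨y, hyD, hyx⟩, fun W hW => ?_⟩
  have hWU : W ≤ p ⁻¹ᵁ U.1 := fun z hz => by
    obtain ⟨w, -, rfl⟩ := hW hz
    exact (mem_opensRange_em U).mp ⟨w, rfl⟩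
  have hsub : ∀ w : (em p chart U ⁻¹ᵁ W : (Proj (dg 𝒮 U)).Opens), A * B ∉ w.1.asHomogeneousIdeal := fun w => by
    obtain ⟨w', hw', e⟩ := hW w.2
    obtain rfl := (em p chart U).isOpenEmbedding.injective e
    exact hw'
  have ninA : ∀ w : (em p chart U ⁻¹ᵁ W : (Proj (dg 𝒮 U)).Opens), A ∉ w.1.asHomogeneousIdeal :=
    fun w h => hsub w (Ideal.mul_mem_right _ _ h)
  have ninB : ∀ w : (em p chart U ⁻¹ᵁ W : (Proj (dg 𝒮 U)).Opens), B ∉ w.1.asHomogeneousIdeal :=
    fun w h => hsub w (Ideal.mul_mem_left _ _ h)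
  have hbL := hL.bijective U.1 U.2 W hWU
  have hbL' := hL'.bijective U.1 U.2 W hWU
  have hbL'' := hL''.bijective U.1 U.2 W hWU
  let e : Γ(Tw p chart n U, W) := ofSec (fracSec A B hA hB ninB hd)
  obtain ⟨e', he'⟩ := hbL'.2 e
  have happ : Function.Bijective ((em p chart U).app W).hom := by
    have : W ≤ (em p chart U).opensRange := fun z hz => (mem_opensRange_em U).mpr (hWU hz)
    haveI := (em p chart U).isIso_app W this
    exact ConcreteCategory.bijective_of_isIso ((em p chart U).app W)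
  have hspan : ∀ z : Γ(L, W) ⊗[Γ(P, W)] Γ(L', W), ∃ μ, z = μ ⊗ₜ[Γ(P, W)] e' := by
    intro z
    induction z with
    | zero => exact ⟨0, (TensorProduct.zero_tmul _ _).symm⟩
    | tmul μ t =>
      obtain ⟨r', hr'⟩ := (bijective_smul_fracSec hA hB ninA ninB hd).2 (toSec (onChart lam' U t))
      obtain ⟨r, rfl⟩ := happ.2 r'
      have hrt : r • e' = t := hbL'.1 <| by
        rw [Scheme.Modules.Hom.app_smul, he']
        exact hr'
      exact ⟨r • μ, by rw [TensorProduct.smul_tmul, hrt]⟩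
    | add z w hz hw =>
      obtain ⟨r, hr⟩ := hz
      obtain ⟨s, hs⟩ := hw
      exact ⟨r + s, by rw [hr, hs, TensorProduct.add_tmul]⟩
  have hmap : ∀ μ, (show Γ(L'', W) from ((mulPreL hP hmn hL hL' hL'').app (op W)).hom (μ ⊗ₜ[Γ(P, W)] e')) =
      mulL hP hmn hL hL' hL'' μ e' := fun μ => rfl
  have hb : Function.Bijective fun μ : Γ(L, W) => mulL hP hmn hL hL' hL'' μ e' := by
    refine (hbL''.of_comp_iff' _).mp ?_
    have he : (fun μ : Γ(L, W) => onChart lam'' U (mulL hP hmn hL hL' hL'' μ e')) =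
        (fun a : Γ(Tw p chart m U, W) => mulTw hmn a e) ∘ fun μ => onChart lam U μ :=
      funext fun μ => by rw [onChart_mulL]; exact congrArg (mulTw hmn _) he'
    show Function.Bijective fun μ : Γ(L, W) => onChart lam'' U (mulL hP hmn hL hL' hL'' μ e')
    rw [he]
    exact (bijective_mulSec_fracSec hmn hA hB ninA ninB hd).comp hbL
  constructor
  · intro (z : Γ(L, W) ⊗[Γ(P, W)] Γ(L', W)) (w : Γ(L, W) ⊗[Γ(P, W)] Γ(L', W)) hzw
    obtain ⟨μ, rfl⟩ := hspan z
    obtain ⟨ν, rfl⟩ := hspan w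
    rw [hb.1 ((hmap μ).symm.trans (hzw.trans (hmap ν)))]
  · intro (t : Γ(L'', W))
    obtain ⟨μ, hμ⟩ := hb.2 t
    exact ⟨μ ⊗ₜ[Γ(P, W)] e', (hmap μ).trans hμ⟩

end GrothLib.RelProjK

namespace GrothLib.RelProjK

variable {S P : Scheme.{u}} {𝒮 : RelProj.QCGrAlg S} (p : P ⟶ S)
  (chart : ∀ (U : S.Opens) (hU : IsAffineOpen U), (((p ⁻¹ᵁ U : P.Opens) : Scheme.{u}) ≅ Proj (𝒮.deg U hU)))

theorem exists_deg_one_chart (hgen : 𝒮.IsGenDegOne) (x : P) :
    ∃ (U : S.AffineZariskiSite) (y : ProjectiveSpectrum (dg 𝒮 U)) (f : 𝒮.presheaf.obj (op U.1)),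
      em p chart U y = x ∧ f ∈ dg 𝒮 U 1 ∧ f ∉ y.asHomogeneousIdeal := by
  obtain ⟨U, hU, hxU, -⟩ := exists_isAffineOpen_mem_and_subset (Opens.mem_top (p x))
  let Us : S.AffineZariskiSite := ⟨U, hU⟩
  obtain ⟨y, hy⟩ := (mem_opensRange_em (chart := chart) Us).mpr hxU
  by_contra hc
  simp only [not_exists, not_and, not_not] at hc
  refine y.not_irrelevant_le fun a ha => ?_
  exact Ideal.span_le.mpr (fun f hf => hc Us y f hy hf) (irrelevant_le_span_deg_one (𝒮.deg U hU) (hgen U hU) ha)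

theorem exists_frac_chart (hgen : 𝒮.IsGenDegOne) (n : ℤ) (x : P) :
    ∃ (U : S.AffineZariskiSite) (y : ProjectiveSpectrum (dg 𝒮 U)) (i j : ℕ)
      (A B : 𝒮.presheaf.obj (op U.1)), em p chart U y = x ∧ A ∈ dg 𝒮 U i ∧ B ∈ dg 𝒮 U j ∧ (i : ℤ) = j + n ∧
        A ∉ y.asHomogeneousIdeal ∧ B ∉ y.asHomogeneousIdeal := by
  obtain ⟨U, y, f, hy, hf, hfy⟩ := exists_deg_one_chart p chart hgen x
  obtain ⟨i, j, A, B, hA, hB, hd, hn⟩ := exists_frac_deg hf n
  exact ⟨U, y, i, j, A, B, hy, hA, hB, by rw [hd, Nat.cast_one, one_mul], (hn y hfy).1, (hn y hfy).2⟩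

end GrothLib.RelProjK
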