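import Groth.Agent.Lib.RelProjK.MapProps
import Groth.Agent.Lib.RelProjK.Tensor
import Groth.Agent.Lib.VA.Gen

/-!
# The comparison of twisting sheaves along a morphism of relative Proj's
-/

set_option autoImplicit false
set_option backward.isDefEq.respectTransparency false

universe u

open CategoryTheory CategoryTheory.Limits AlgebraicGeometry TopologicalSpace Opposite
open scoped HomogeneousIdeal
open GrothLib.InvExt (mres IsGen)

noncomputable section

namespace GrothLib.RelProjK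

theorem locMap_square {A B B' C : Type u} [CommRing A] [CommRing B] [CommRing B'] [CommRing C] {σ τ τ' υ : Type u}
    [SetLike σ A] [AddSubgroupClass σ A] [SetLike τ B] [AddSubgroupClass τ B] [SetLike τ' B'] [AddSubgroupClass τ' B']
    [SetLike υ C] [AddSubgroupClass υ C] {𝒜 : ℕ → σ} {ℬ : ℕ → τ} {ℬ' : ℕ → τ'} {𝒞 : ℕ → υ} [GradedRing 𝒜]
    [GradedRing ℬ] [GradedRing ℬ'] [GradedRing 𝒞]
    (ψ : 𝒜 →+*ᵍ ℬ) (hψ : ℬ₊ ≤ (𝒜₊).map ψ) (χ : ℬ →+*ᵍ 𝒞) (hχ : 𝒞₊ ≤ (ℬ₊).map χ)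
    (ψ' : 𝒜 →+*ᵍ ℬ') (hψ' : ℬ'₊ ≤ (𝒜₊).map ψ') (χ' : ℬ' →+*ᵍ 𝒞) (hχ' : 𝒞₊ ≤ (ℬ'₊).map χ')
    (heq : ∀ a, χ (ψ a) = χ' (ψ' a)) (z : ProjectiveSpectrum 𝒞)
    (q : GrTwist.Loc 𝒜 (ProjectiveSpectrum.comap ψ hψ (ProjectiveSpectrum.comap χ hχ z)))
    (q' : GrTwist.Loc 𝒜 (ProjectiveSpectrum.comap ψ' hψ' (ProjectiveSpectrum.comap χ' hχ' z))) (hq : HEq q q') :
    GrTwist.locMap χ hχ z (GrTwist.locMap ψ hψ _ q) = GrTwist.locMap χ' hχ' z (GrTwist.locMap ψ' hψ' _ q') := by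
  have hω := HomogeneousIdeal.irrelevant_le_map_comp hψ hχ
  obtain ⟨e, he⟩ := locMap_comp ψ hψ χ hχ (χ.comp ψ) hω (fun _ => rfl) z
  obtain ⟨e', he'⟩ := locMap_comp ψ' hψ' χ' hχ' (χ.comp ψ) hω (fun a => (heq a).symm) z
  refine (he _ rfl q).trans (Eq.trans ?_ (he' _ rfl q').symm)
  congr 1
  have key : ∀ {x₁ x₂ x₃ : ProjectiveSpectrum 𝒜} (e₁ : x₁ = x₃) (e₂ : x₂ = x₃) (q₁ : GrTwist.Loc 𝒜 x₁)
      (q₂ : GrTwist.Loc 𝒜 x₂), HEq q₁ q₂ → (e₁ ▸ q₁ : GrTwist.Loc 𝒜 x₃) = e₂ ▸ q₂ := by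
    intro x₁ x₂ x₃ e₁ e₂ q₁ q₂ hh
    subst e₁; subst e₂
    exact eq_of_heq hh
  exact key (rfl.trans e) (rfl.trans e') q q' hq

variable {Y : Scheme.{u}} {𝒮 : RelProj.QCGrAlg Y} {P : Scheme.{u}} {p : P ⟶ Y}
  {chart : ∀ (U : Y.Opens) (hU : IsAffineOpen U), (((p ⁻¹ᵁ U : P.Opens) : Scheme.{u}) ≅ Proj (𝒮.deg U hU))}

theorem vl_heq {n : ℤ} {U : Y.AffineZariskiSite} {W : P.Opens} (t : Γ(Tw p chart n U, W))
    {y y' : ProjectiveSpectrum (dg 𝒮 U)} (e : y = y') (hy : em p chart U y ∈ W) (hy' : em p chart U y' ∈ W) :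
    HEq (vl t y hy) (vl t y' hy') := by
  subst e; rfl

theorem smul_ofSec {n : ℤ} {U : Y.AffineZariskiSite} {W : P.Opens} (r : Γ(P, W))
    (a : GrTwist.sectN (𝒜 := dg 𝒮 U) n (op (em p chart U ⁻¹ᵁ W))) :
    r • ofSec (chart := chart) a =
      ofSec (chart := chart) ((show GrTwist.O (𝒜 := dg 𝒮 U) (op (em p chart U ⁻¹ᵁ W)) from (em p chart U).app W r) • a) :=
  rfl

/-- A section which is an invertible fraction on a chart generates. -/
theorem isGen_of_frac {n : ℤ} {L : P.Modules}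
    {lam : ∀ (U : Y.Opens) (hU : IsAffineOpen U),
      L ⟶ (Scheme.Modules.pushforward (RelProj.emb p chart U hU)).obj (GrTwist.twist (𝒮.deg U hU) n)}
    (hL : RelProj.IsRelTwist 𝒮 p chart n L lam) (U : Y.AffineZariskiSite) {i j : ℕ}
    {A B : 𝒮.presheaf.obj (op U.1)} (hA : A ∈ dg 𝒮 U i) (hB : B ∈ dg 𝒮 U j) (hd : (i : ℤ) = j + n) {D : P.Opens}
    (hDU : D ≤ p ⁻¹ᵁ U.1)
    (nin : ∀ (y : ProjectiveSpectrum (dg 𝒮 U)) (_ : em p chart U y ∈ D), A ∉ y.asHomogeneousIdeal ∧ B ∉ y.asHomogeneousIdeal)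
    (t : Γ(L, D))
    (ht : ∀ y hy, vl (onChart lam U t) y hy = Localization.mk A ⟨B, (nin y hy).2⟩) : IsGen L D t := by
  intro W hW
  have hWU : W ≤ p ⁻¹ᵁ U.1 := hW.trans hDU
  have happ : Function.Bijective ((em p chart U).app W).hom := by
    have : W ≤ (em p chart U).opensRange := fun z hz => (mem_opensRange_em U).mpr (hWU hz)
    haveI := (em p chart U).isIso_app W this
    exact ConcreteCategory.bijective_of_isIso ((em p chart U).app W)
  have ninA : ∀ w : (em p chart U ⁻¹ᵁ W : (Proj (dg 𝒮 U)).Opens), A ∉ w.1.asHomogeneousIdeal :=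
    fun w => (nin w.1 (hW w.2)).1
  have ninB : ∀ w : (em p chart U ⁻¹ᵁ W : (Proj (dg 𝒮 U)).Opens), B ∉ w.1.asHomogeneousIdeal :=
    fun w => (nin w.1 (hW w.2)).2
  have htW : onChart lam U (mres L hW t) = ofSec (fracSec A B hA hB ninB hd) := by
    refine vl_ext fun y hy => ?_
    have h1 : onChart lam U (mres L hW t) = tr _ hW (onChart lam U t) := app_tr (lam U.1 U.2) hW t
    rw [h1]
    exact ht y (hW hy)
  refine ((hL.bijective U.1 U.2 W hWU).of_comp_iff' _).mp ?_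
  let f := fun r : Γ(P, W) => ofSec (chart := chart)
    ((show GrTwist.O (𝒜 := dg 𝒮 U) (op (em p chart U ⁻¹ᵁ W)) from (em p chart U).app W r) • fracSec A B hA hB ninB hd)
  have he : (fun r : Γ(P, W) => onChart lam U (r • mres L hW t)) = f := funext fun r =>
    (onChart_smul lam U r _).trans ((congrArg (fun v => r • v) htW).trans (smul_ofSec r _))
  show Function.Bijective fun r : Γ(P, W) => onChart lam U (r • mres L hW t)
  rw [he]
  exact (bijective_smul_fracSec hA hB ninA ninB hd).comp happ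

section map

variable {PA PB : Scheme.{u}} {𝒜 ℬ : RelProj.QCGrAlg Y} {φ : 𝒜.toQCAlg ⟶ ℬ.toQCAlg} {hφ : RelProj.IsGradedHom φ}
  {hirr : ∀ (U : Y.Opens) (hU : IsAffineOpen U),
    (ℬ.deg U hU)₊ ≤ ((𝒜.deg U hU)₊).map (RelProj.gradedHomAt φ hφ U hU)}
  {pA : PA ⟶ Y} {pB : PB ⟶ Y}
  {chartA : ∀ (U : Y.Opens) (hU : IsAffineOpen U), (((pA ⁻¹ᵁ U : PA.Opens) : Scheme.{u}) ≅ Proj (𝒜.deg U hU))}
  {chartB : ∀ (U : Y.Opens) (hU : IsAffineOpen U), (((pB ⁻¹ᵁ U : PB.Opens) : Scheme.{u}) ≅ Proj (ℬ.deg U hU))}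

theorem em_relProjMap {h : PB ⟶ PA} (hh : RelProj.IsRelProjMap φ hφ hirr chartA chartB h) (U : Y.AffineZariskiSite) :
    em pB chartB U ≫ h = Proj.map (RelProj.gradedHomAt φ hφ U.1 U.2) (hirr U.1 U.2) ≫ em pA chartA U := by
  show ((chartB U.1 U.2).inv ≫ (pB ⁻¹ᵁ U.1).ι) ≫ h = _
  rw [Category.assoc, hh U.1 U.2, Iso.inv_hom_id_assoc]
  rfl

theorem em_cmap {h : PB ⟶ PA} (hh : RelProj.IsRelProjMap φ hφ hirr chartA chartB h) (U : Y.AffineZariskiSite)
    (y : ProjectiveSpectrum (dg ℬ U)) :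
    h (em pB chartB U y) = em pA chartA U (ProjectiveSpectrum.comap (RelProj.gradedHomAt φ hφ U.1 U.2) (hirr U.1 U.2) y) :=
  congrArg (fun k : Proj (dg ℬ U) ⟶ PA => k y) (em_relProjMap hh U)

variable {h : PB ⟶ PA} (hh : RelProj.IsRelProjMap φ hφ hirr chartA chartB h) {n : ℤ}

/-- The comparison of twists on a chart. -/
def cmp (U : Y.AffineZariskiSite) : Tw pA chartA n U ⟶ (Scheme.Modules.pushforward h).obj (Tw pB chartB n U) :=
  (Scheme.Modules.pushforward (em pA chartA U)).map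
      (GrTwist.comap (RelProj.gradedHomAt φ hφ U.1 U.2) (hirr U.1 U.2) n) ≫
    (Scheme.Modules.pushforwardComp (Proj.map (RelProj.gradedHomAt φ hφ U.1 U.2) (hirr U.1 U.2)) (em pA chartA U)).hom.app _ ≫
      (Scheme.Modules.pushforwardCongr (em_relProjMap hh U).symm).hom.app _ ≫
        (Scheme.Modules.pushforwardComp (em pB chartB U) h).inv.app _

theorem vl_cmp (U : Y.AffineZariskiSite) {W : PA.Opens} (t : Γ(Tw pA chartA n U, W))
    (y : ProjectiveSpectrum (dg ℬ U)) (hy : em pB chartB U y ∈ h ⁻¹ᵁ W) :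
    vl (show Γ(Tw pB chartB n U, h ⁻¹ᵁ W) from (cmp hh U).app W t) y hy =
      GrTwist.locMap (RelProj.gradedHomAt φ hφ U.1 U.2) (hirr U.1 U.2) y
        (vl t (ProjectiveSpectrum.comap (RelProj.gradedHomAt φ hφ U.1 U.2) (hirr U.1 U.2) y)
          ((em_cmap hh U y) ▸ hy)) := rfl

variable (hA : RelProj.IsRelProj 𝒜 pA chartA) (hB : RelProj.IsRelProj ℬ pB chartB) {LA : PA.Modules} {LB : PB.Modules}
  {lamA : ∀ (U : Y.Opens) (hU : IsAffineOpen U),
    LA ⟶ (Scheme.Modules.pushforward (RelProj.emb pA chartA U hU)).obj (GrTwist.twist (𝒜.deg U hU) n)}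
  (hLA : RelProj.IsRelTwist 𝒜 pA chartA n LA lamA)
  {lamB : ∀ (U : Y.Opens) (hU : IsAffineOpen U),
    LB ⟶ (Scheme.Modules.pushforward (RelProj.emb pB chartB U hU)).obj (GrTwist.twist (ℬ.deg U hU) n)}
  (hLB : RelProj.IsRelTwist ℬ pB chartB n LB lamB)

include hA hLA in
theorem cmp_cm {U V : Y.AffineZariskiSite} (hVU : V ≤ U) :
    (lamA U.1 U.2 ≫ cmp hh U) ≫ (Scheme.Modules.pushforward h).map (cm hB n hVU) = lamA V.1 V.2 ≫ cmp hh V := by
  refine Scheme.Modules.hom_ext _ _ fun W => ConcreteCategory.hom_ext _ _ fun s => ?_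
  refine vl_ext (p := pB) (chart := chartB) (W := h ⁻¹ᵁ W) fun y hy => ?_
  show vl ((cm hB n hVU).app (h ⁻¹ᵁ W) (show Γ(Tw pB chartB n U, h ⁻¹ᵁ W) from (cmp hh U).app W (onChart lamA U s))) y hy =
    vl (show Γ(Tw pB chartB n V, h ⁻¹ᵁ W) from (cmp hh V).app W (onChart lamA V s)) y hy
  rw [vl_cm, vl_cmp hh U, vl_cmp hh V]
  have hV : onChart lamA V s = (cm hA n hVU).app W (onChart lamA U s) := (isFam_of_isRelTwist hA n hLA s U V hVU).symm
  rw [hV, vl_cm]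
  refine locMap_square _ _ _ _ _ _ _ _ (fun a => ?_) _ _ _ (vl_heq _ ?_ _ _)
  · show (ℬ.presheaf.map _).hom ((φ.hom.app (op U.1)).hom a) = (φ.hom.app (op V.1)).hom ((𝒜.presheaf.map _).hom a)
    exact (ConcreteCategory.congr_hom (φ.hom.naturality _) a).symm
  · refine ProjectiveSpectrum.ext (HomogeneousIdeal.ext (Ideal.ext fun a => ?_))
    show (ℬ.presheaf.map _).hom ((φ.hom.app (op U.1)).hom a) ∈ y.asHomogeneousIdeal ↔
      (φ.hom.app (op V.1)).hom ((𝒜.presheaf.map _).hom a) ∈ y.asHomogeneousIdeal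
    rw [show (φ.hom.app (op V.1)).hom ((𝒜.presheaf.map _).hom a) = _ from
      ConcreteCategory.congr_hom (φ.hom.naturality (homOfLE (Scheme.AffineZariskiSite.toOpens_mono hVU)).op) a]
    exact Iff.rfl

include hh hA hB hLA hLB in
/-- The canonical map of twisting sheaves along a morphism of relative Proj's. -/
theorem exists_twistMap :
    ∃ θ : LA ⟶ (Scheme.Modules.pushforward h).obj LB, ∀ U : Y.AffineZariskiSite,
      θ ≫ (Scheme.Modules.pushforward h).map (lamB U.1 U.2) = lamA U.1 U.2 ≫ cmp hh U := by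
  let adj := Scheme.Modules.pullbackPushforwardAdjunction h
  let l : ∀ U : Y.AffineZariskiSite, (Scheme.Modules.pullback h).obj LA ⟶ Tw pB chartB n U := fun U =>
    (adj.homEquiv _ _).symm (lamA U.1 U.2 ≫ cmp hh U)
  have hl : ∀ (W : PB.Opens) (s : Γ((Scheme.Modules.pullback h).obj LA, W)),
      IsFam (Tw pB chartB n) (cm hB n) fun U => (l U).app W s := fun W s U V hVU => by
    have e : l U ≫ cm hB n hVU = l V := by
      rw [← adj.homEquiv_naturality_right_symm, cmp_cm hh hA hB hLA hVU]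
    exact congrArg (fun k : (Scheme.Modules.pullback h).obj LA ⟶ Tw pB chartB n V => k.app W s) e
  haveI := isIso_toRelTwist hB n hLB
  let L' := famLift (M := Tw pB chartB n) (c := cm hB n) l hl ≫ inv (toRelTwist hB n hLB)
  refine ⟨adj.homEquiv _ _ L', fun U => ?_⟩
  have e : L' ≫ lamB U.1 U.2 = l U := by
    show (famLift l hl ≫ inv (toRelTwist hB n hLB)) ≫ lamB U.1 U.2 = l U
    rw [Category.assoc, ← toRelTwist_comp hB n hLB U.1 U.2, IsIso.inv_hom_id_assoc]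
    exact famLift_proj l hl U
  rw [← adj.homEquiv_naturality_right, e]
  exact Equiv.apply_symm_apply _ _

include hh hA hB hLA hLB in
/-- The canonical map is characterized on values. -/
theorem existsUnique_twistMap :
    ∃! θ : LA ⟶ (Scheme.Modules.pushforward h).obj LB, ∀ (U : Y.AffineZariskiSite) (W : PA.Opens) (s : Γ(LA, W))
      (y : ProjectiveSpectrum (dg ℬ U)) (hy : em pB chartB U y ∈ h ⁻¹ᵁ W)
      (hy' : em pA chartA U (ProjectiveSpectrum.comap (RelProj.gradedHomAt φ hφ U.1 U.2) (hirr U.1 U.2) y) ∈ W),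
      vl (onChart lamB U (show Γ(LB, h ⁻¹ᵁ W) from θ.app W s)) y hy =
        GrTwist.locMap (RelProj.gradedHomAt φ hφ U.1 U.2) (hirr U.1 U.2) y (vl (onChart lamA U s) _ hy') := by
  obtain ⟨θ, hθ⟩ := exists_twistMap hh hA hB hLA hLB
  have hval : ∀ (U : Y.AffineZariskiSite) (W : PA.Opens) (s : Γ(LA, W)),
      onChart lamB U (show Γ(LB, h ⁻¹ᵁ W) from θ.app W s) =
        (show Γ(Tw pB chartB n U, h ⁻¹ᵁ W) from (cmp hh U).app W (onChart lamA U s)) := fun U W s =>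
    congrArg (fun k : LA ⟶ (Scheme.Modules.pushforward h).obj (Tw pB chartB n U) => k.app W s) (hθ U)
  refine ⟨θ, fun U W s y hy hy' => ?_, fun θ' hθ' => ?_⟩
  · rw [hval U W s]
    exact vl_cmp hh U _ y hy
  · refine Scheme.Modules.hom_ext _ _ fun W => ConcreteCategory.hom_ext _ _ fun s => ?_
    refine twist_ext hB hLB (W := h ⁻¹ᵁ W) fun U y hy => ?_
    have hy' : em pA chartA U (ProjectiveSpectrum.comap (RelProj.gradedHomAt φ hφ U.1 U.2) (hirr U.1 U.2) y) ∈ W :=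
      em_cmap hh U y ▸ hy
    rw [hθ' U W s y hy hy']
    exact ((congrArg (fun v => vl v y hy) (hval U W s)).trans (vl_cmp hh U _ y hy)).symm

include hh hA hB hLA hLB in
/-- The inverse image of the twisting sheaf of the target is the twisting sheaf of the source. -/
theorem nonempty_pullback_twist_iso (hgen : 𝒜.IsGenDegOne) :
    Nonempty ((Scheme.Modules.pullback h).obj LA ≅ LB) := by
  obtain ⟨θ, hθ, -⟩ := existsUnique_twistMap hh hA hB hLA hLB
  choose U y i j A B hyx hAi hBj hd hAy hBy using exists_frac_chart pA chartA hgen n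
  let D : PA → PA.Opens := fun x => em pA chartA (U x) ''ᵁ Proj.basicOpen (dg 𝒜 (U x)) (A x * B x)
  have nin : ∀ x (w : ProjectiveSpectrum (dg 𝒜 (U x))), em pA chartA (U x) w ∈ D x →
      A x ∉ w.asHomogeneousIdeal ∧ B x ∉ w.asHomogeneousIdeal := fun x w hw => by
    obtain ⟨w', hw', e⟩ := hw
    obtain rfl := (em pA chartA (U x)).isOpenEmbedding.injective e
    exact ⟨fun h => hw' (Ideal.mul_mem_right _ _ h), fun h => hw' (Ideal.mul_mem_left _ _ h)⟩
  have hDU : ∀ x, D x ≤ pA ⁻¹ᵁ (U x).1 := fun x z hz => by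
    obtain ⟨w, -, rfl⟩ := hz
    exact (mem_opensRange_em (U x)).mp ⟨w, rfl⟩
  choose t ht using fun x => (hLA.bijective (U x).1 (U x).2 (D x) (hDU x)).2
    (ofSec (fracSec (A x) (B x) (hAi x) (hBj x) (fun w => (nin x w.1 w.2).2) (hd x)))
  have htv : ∀ x w (hw : em pA chartA (U x) w ∈ D x),
      vl (onChart lamA (U x) (t x)) w hw = Localization.mk (A x) ⟨B x, (nin x w hw).2⟩ := fun x w hw =>
    congrArg (fun v => vl v w hw) (ht x)
  have hiso : IsIso (((Scheme.Modules.pullbackPushforwardAdjunction h).homEquiv LA LB).symm θ) := by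
    refine VA.isIso_symm_of_gens h D ?_ t (fun x => isGen_of_frac hLA (U x) (hAi x) (hBj x) (hd x) (hDU x) (nin x) _ (htv x))
      θ fun x => ?_
    · exact eq_top_iff.mpr fun x _ => Opens.mem_iSup.mpr
        ⟨x, y x, fun hxy => ((y x).isPrime.mem_or_mem hxy).elim (hAy x) (hBy x), hyx x⟩
    · have hB' : h ⁻¹ᵁ D x ≤ pB ⁻¹ᵁ (U x).1 := fun z hz => by
        show pB z ∈ (U x).1
        rw [← relProjMap_comp hA hB hh]
        exact hDU x hz
      let g := RelProj.gradedHomAt φ hφ (U x).1 (U x).2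
      refine isGen_of_frac hLB (U x) (g.map_mem (hAi x)) (g.map_mem (hBj x)) (hd x) hB' (fun w hw => ?_) _ fun w hw => ?_
      · exact nin x (ProjectiveSpectrum.comap g (hirr (U x).1 (U x).2) w) (em_cmap hh (U x) w ▸ hw)
      · have hw' : em pA chartA (U x) (ProjectiveSpectrum.comap g (hirr (U x).1 (U x).2) w) ∈ D x :=
          em_cmap hh (U x) w ▸ hw
        rw [hθ (U x) (D x) (t x) w hw hw', htv x _ hw']
        exact GrTwist.locMap_mk _ _ _ _ _
  exact ⟨asIso (((Scheme.Modules.pullbackPushforwardAdjunction h).homEquiv LA LB).symm θ)⟩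

end map

end GrothLib.RelProjK
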