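import Groth.Agent.Lib.RelProjK.Comap

/-!
# Basic opens of a relative Proj
-/

set_option autoImplicit false
set_option backward.isDefEq.respectTransparency false

universe u

open CategoryTheory CategoryTheory.Limits AlgebraicGeometry TopologicalSpace Opposite
open scoped HomogeneousIdeal

noncomputable section

namespace GrothLib.RelProjK

variable {Y P : Scheme.{u}} {𝒮 : RelProj.QCGrAlg Y} {p : P ⟶ Y}
  {chart : ∀ (U : Y.Opens) (hU : IsAffineOpen U), (((p ⁻¹ᵁ U : P.Opens) : Scheme.{u}) ≅ Proj (𝒮.deg U hU))}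

variable (p chart) in
/-- The basic open of a global section, in the chart of an affine open. -/
def piece (f : 𝒮.presheaf.obj (op ⊤)) (U : Y.AffineZariskiSite) : P.Opens :=
  (p ⁻¹ᵁ U.1).ι ''ᵁ ((chart U.1 U.2).hom ⁻¹ᵁ
    Proj.basicOpen (𝒮.deg U.1 U.2) ((𝒮.presheaf.map (homOfLE le_top).op).hom f))

theorem mem_piece {f : 𝒮.presheaf.obj (op ⊤)} {U : Y.AffineZariskiSite} {x : P} :
    x ∈ piece p chart f U ↔ ∃ y : ProjectiveSpectrum (dg 𝒮 U), em p chart U y = x ∧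
      (𝒮.presheaf.map (homOfLE le_top).op).hom f ∉ y.asHomogeneousIdeal := by
  constructor
  · rintro ⟨z, hz, rfl⟩
    refine ⟨(chart U.1 U.2).hom z, ?_, hz⟩
    show ((chart U.1 U.2).hom ≫ (chart U.1 U.2).inv ≫ (p ⁻¹ᵁ U.1).ι) z = _
    rw [Iso.hom_inv_id_assoc]
    rfl
  · rintro ⟨y, rfl, hy⟩
    refine ⟨(chart U.1 U.2).inv y, ?_, rfl⟩
    show ((chart U.1 U.2).inv ≫ (chart U.1 U.2).hom) y ∈ Proj.basicOpen (𝒮.deg U.1 U.2) _
    rw [Iso.inv_hom_id]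
    exact hy

theorem piece_le (f : 𝒮.presheaf.obj (op ⊤)) (U : Y.AffineZariskiSite) : piece p chart f U ≤ p ⁻¹ᵁ U.1 := by
  rintro _ ⟨z, -, rfl⟩
  exact z.2

theorem piece_inf_le (hP : RelProj.IsRelProj 𝒮 p chart) (f : 𝒮.presheaf.obj (op ⊤)) (U V : Y.AffineZariskiSite) :
    piece p chart f V ⊓ p ⁻¹ᵁ U.1 ≤ piece p chart f U := by
  rintro x ⟨hxV, hxU⟩
  obtain ⟨r, s, e, hr⟩ := exists_basicOpen_le_affine_inter U.2 V.2 (p x) ⟨hxU, piece_le f V hxV⟩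
  have hWU : (U.basicOpen r) ≤ U := Scheme.AffineZariskiSite.basicOpen_le U r
  have hWV : (U.basicOpen r) ≤ V := ⟨s, e.symm⟩
  obtain ⟨y, rfl⟩ := (mem_opensRange_em (chart := chart) (U.basicOpen r)).mpr hr
  obtain ⟨y', hy', hfy'⟩ := mem_piece.mp hxV
  refine mem_piece.mpr ⟨ProjectiveSpectrum.comap (rs 𝒮 hWU) (rs_irr 𝒮 hWU) y, em_comap hP hWU y, fun hmem => hfy' ?_⟩
  have e' : y' = ProjectiveSpectrum.comap (rs 𝒮 hWV) (rs_irr 𝒮 hWV) y :=
    (em p chart V).isOpenEmbedding.injective (hy'.trans (em_comap hP hWV y).symm)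
  rw [e']
  have hres : ∀ {A B : Y.AffineZariskiSite} (h : B ≤ A),
      rs 𝒮 h ((𝒮.presheaf.map (homOfLE le_top).op).hom f) = (𝒮.presheaf.map (homOfLE (le_top : B.1 ≤ ⊤)).op).hom f := by
    intro A B h
    show (𝒮.presheaf.map _).hom ((𝒮.presheaf.map _).hom f) = _
    rw [← CommRingCat.comp_apply, ← 𝒮.presheaf.map_comp]
    rfl
  show rs 𝒮 hWV ((𝒮.presheaf.map (homOfLE le_top).op).hom f) ∈ y.asHomogeneousIdeal
  have hmem' : rs 𝒮 hWU ((𝒮.presheaf.map (homOfLE le_top).op).hom f) ∈ y.asHomogeneousIdeal := hmem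
  rw [hres] at hmem' ⊢
  exact hmem'

theorem iSup_piece_inf (hP : RelProj.IsRelProj 𝒮 p chart) (f : 𝒮.presheaf.obj (op ⊤)) (U : Y.AffineZariskiSite) :
    (⨆ V, piece p chart f V) ⊓ p ⁻¹ᵁ U.1 = piece p chart f U := by
  refine le_antisymm ?_ (le_inf (le_iSup (piece p chart f) U) (piece_le f U))
  rw [iSup_inf_eq]
  exact iSup_le fun V => piece_inf_le hP f U V

theorem isAffineOpen_piece {f : 𝒮.presheaf.obj (op ⊤)} (U : Y.AffineZariskiSite) {d : ℕ} (hd : 0 < d)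
    (hf : (𝒮.presheaf.map (homOfLE le_top).op).hom f ∈ 𝒮.deg U.1 U.2 d) : IsAffineOpen (piece p chart f U) :=
  ((Proj.isAffineOpen_basicOpen _ _ hf hd).preimage_of_isIso (chart U.1 U.2).hom).image_of_isOpenImmersion _

theorem isAffineHom_iSup_piece (hP : RelProj.IsRelProj 𝒮 p chart) (f : 𝒮.presheaf.obj (op ⊤)) {d : ℕ} (hd : 0 < d)
    (hf : ∀ (U : Y.Opens) (hU : IsAffineOpen U), (𝒮.presheaf.map (homOfLE le_top).op).hom f ∈ 𝒮.deg U hU d) :
    IsAffineHom ((⨆ V, piece p chart f V).ι ≫ p) := by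
  refine ⟨fun U hU => ?_⟩
  rw [← Scheme.Hom.isAffineOpen_iff_of_isOpenImmersion (⨆ V, piece p chart f V).ι, Scheme.Hom.comp_preimage,
    Scheme.Hom.image_preimage_eq_opensRange_inf, Scheme.Opens.opensRange_ι, iSup_piece_inf hP f ⟨U, hU⟩]
  exact isAffineOpen_piece ⟨U, hU⟩ hd (hf U hU)

end GrothLib.RelProjK
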